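import Cfsg.Agent.Lib.Classical.SpTensorSix.One

/-!
# Too many members
-/

set_option autoImplicit false
set_option linter.unusedSectionVars false

namespace CfsgLib.Classical.SpTensorSix

open Module CfsgLib.Classical

variable {F W : Type*} [Field F] [AddCommGroup W] [Module F W] {β : W →ₗ[F] W →ₗ[F] F}
  {M : Subgroup (isomGroup (form β))}

/-- The Lagrangian of pairs `(S y, y)`. -/
def grT (S : W →ₗ[F] W) : Submodule F (W × W) := LinearMap.range (S.prod LinearMap.id)

theorem mem_grT {S : W →ₗ[F] W} {p : W × W} : p ∈ grT S ↔ p.1 = S p.2 := by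
  constructor
  · rintro ⟨y, rfl⟩; rfl
  · exact fun e => ⟨p.2, Prod.ext e.symm rfl⟩

/-- A self-adjoint map without eigenvalues. -/
structure Irred (β : W →ₗ[F] W →ₗ[F] F) (S : W →ₗ[F] W) : Prop where
  sa : SA β S
  eigen : ∀ (t : F) (y : W), S y = t • y → y = 0

namespace Irred

variable (hs : Setting β) {S : W →ₗ[F] W} (hS : Irred β S)
include hs hS

theorem invariant (U : Submodule F W) (hU : ∀ u ∈ U, S u ∈ U) : U = ⊥ ∨ U = ⊤ := by
  haveI := hs.finite_dim
  have line : ∀ L : Submodule F W, finrank F L = 1 → (∀ u ∈ L, S u ∈ L) → False := fun L hL hinv => by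
    obtain ⟨v, hv0, hv⟩ := finrank_eq_one_iff'.1 hL
    obtain ⟨t, ht⟩ := hv ⟨S v, hinv _ v.2⟩
    exact hv0 (Subtype.ext (hS.eigen t v (congrArg Subtype.val ht).symm))
  have hle := Submodule.finrank_le U
  rw [hs.dim] at hle
  rcases (show finrank F U = 0 ∨ finrank F U = 1 ∨ finrank F U = 2 ∨ finrank F U = 3 by omega) with e | e | e | e
  · exact Or.inl (Submodule.finrank_eq_zero.1 e)
  · exact (line U e hU).elim
  · refine (line (perp β U) ?_ fun u hu => mem_perp.2 fun w hw => by rw [← hS.sa]; exact mem_perp.1 hu _ (hU w hw)).elim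
    have h1 := finrank_le_finrank_perp_add β U
    rw [hs.dim, e] at h1
    by_contra hne
    have h2 : 2 ≤ finrank F (perp β U) := by omega
    -- two independent vectors of the perpendicular have at most a line of common perpendicular vectors
    obtain ⟨p, hp, hp0⟩ : ∃ p ∈ perp β U, p ≠ 0 := Submodule.exists_mem_ne_zero_of_ne_bot (fun hb => by
      rw [hb, finrank_bot] at h2; omega)
    have hUp : U = LinearMap.ker (β p) := Submodule.eq_of_le_of_finrank_le
      (fun w hw => by rw [LinearMap.mem_ker, hs.symm]; exact mem_perp.1 hp w hw) (by rw [hs.finrank_perp hp0, e])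
    have hle2 : perp β U ≤ (F ∙ p) := fun q hq => by
      obtain ⟨c, rfl⟩ := hs.mem_line_of_perp (y := q) hp0 fun w hw => by
        rw [hs.symm]; exact mem_perp.1 hq w (hUp ▸ LinearMap.mem_ker.2 hw)
      exact Submodule.smul_mem _ c (Submodule.mem_span_singleton_self p)
    have h3 := Submodule.finrank_mono hle2
    rw [finrank_span_singleton hp0] at h3
    omega
  · exact Or.inr (Submodule.eq_top_of_finrank_eq (by rw [e, hs.dim]))

theorem indep {e : W} (he : e ≠ 0) : LinearIndependent F ![e, S e, S (S e)] := by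
  haveI := hs.finite_dim
  rw [Fintype.linearIndependent_iff]
  intro g hg
  simp only [Fin.sum_univ_three, Matrix.cons_val_zero, Matrix.cons_val_one, Matrix.cons_val_two, Matrix.tail_cons,
    Matrix.head_cons] at hg
  have hg2 : g 2 = 0 := by
    by_contra h2
    set U := Submodule.span F ({e, S e} : Set W)
    have hU : ∀ u ∈ U, S u ∈ U := fun u hu => by
      obtain ⟨a, b, rfl⟩ := Submodule.mem_span_pair.1 hu
      rw [map_add, map_smul, map_smul]
      refine U.add_mem (U.smul_mem _ (Submodule.subset_span (by simp))) (U.smul_mem _ ?_)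
      have : S (S e) = (-(g 2)⁻¹ * g 0) • e + (-(g 2)⁻¹ * g 1) • S e := by
        have := congrArg ((g 2)⁻¹ • ·) hg
        simp only [smul_add, smul_smul, inv_mul_cancel₀ h2, one_smul, smul_zero] at this
        rw [eq_neg_of_add_eq_zero_right this]
        module
      rw [this]
      exact U.add_mem (U.smul_mem _ (Submodule.subset_span (by simp))) (U.smul_mem _ (Submodule.subset_span (by simp)))
    rcases hS.invariant hs U hU with e' | e'
    · exact he ((Submodule.eq_bot_iff _).1 e' e (Submodule.subset_span (by simp)))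
    · have h1 := Submodule.finrank_add_le_finrank_add_finrank (F ∙ e) (F ∙ S e)
      rw [← Submodule.span_insert, show Submodule.span F ({e, S e} : Set W) = ⊤ from e', finrank_top, hs.dim,
        finrank_span_singleton he] at h1
      have h4 := finrank_span_le_card (R := F) ({S e} : Set W)
      simp at h4
      omega
  rw [hg2, zero_smul, add_zero] at hg
  have hg1 : g 1 = 0 := by
    by_contra h1
    refine he (hS.eigen (-(g 1)⁻¹ * g 0) e ?_)
    have := congrArg ((g 1)⁻¹ • ·) hg
    simp only [smul_add, smul_smul, inv_mul_cancel₀ h1, one_smul, smul_zero] at this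
    rw [eq_neg_of_add_eq_zero_right this]
    module
  rw [hg1, zero_smul, add_zero, smul_eq_zero] at hg
  intro i
  fin_cases i
  · exact hg.resolve_right he
  · exact hg1
  · exact hg2

theorem poly_eq {e : W} (he : e ≠ 0) {Z : W →ₗ[F] W} (hZ : ∀ u, Z (S u) = S (Z u)) :
    ∃ a b c : F, ∀ u, Z u = a • u + b • S u + c • S (S u) := by
  haveI := hs.finite_dim
  have hspan := (hS.indep hs he).span_eq_top_of_card_eq_finrank (by rw [Fintype.card_fin, hs.dim])
  obtain ⟨g, hg⟩ := (Submodule.mem_span_range_iff_exists_fun F).1 (hspan ▸ Submodule.mem_top (x := Z e))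
  simp only [Fin.sum_univ_three, Matrix.cons_val_zero, Matrix.cons_val_one, Matrix.cons_val_two, Matrix.tail_cons,
    Matrix.head_cons] at hg
  set P : W →ₗ[F] W := g 0 • LinearMap.id + g 1 • S + g 2 • (S ∘ₗ S)
  have hP : Z = P := by
    refine (Basis.mk (hS.indep hs he) hspan.ge).ext fun i => ?_
    rw [Basis.mk_apply]
    fin_cases i
    · simp [P, hg]
    · simp [P, hZ, ← hg]
    · simp [P, hZ, ← hg]
  exact ⟨g 0, g 1, g 2, fun u => by rw [hP]; simp [P]⟩

theorem commute_of_commute {Z Z' : W →ₗ[F] W} (hZ : ∀ u, Z (S u) = S (Z u)) (hZ' : ∀ u, Z' (S u) = S (Z' u)) :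
    ∀ u, Z (Z' u) = Z' (Z u) := by
  intro u
  by_cases he : ∀ v : W, v = 0
  · rw [he (Z (Z' u)), he (Z' (Z u))]
  push Not at he
  obtain ⟨e, he⟩ := he
  obtain ⟨a, b, c, h⟩ := hS.poly_eq hs he hZ
  rw [h, h]
  simp only [map_add, map_smul, hZ']

theorem injective {Z : W →ₗ[F] W} (hZ : ∀ u, Z (S u) = S (Z u)) {v : W} (hv : v ≠ 0) (hZv : Z v = 0) : Z = 0 := by
  rcases hS.invariant hs (LinearMap.ker Z) (fun u hu => by
    rw [LinearMap.mem_ker] at hu ⊢; rw [hZ, hu, map_zero]) with e | e
  · exact absurd ((Submodule.eq_bot_iff _).1 e v hZv) hv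
  · exact LinearMap.ker_eq_top.1 e

theorem quad {e : W} (he : e ≠ 0) {p q r : F} (h : ∀ u, p • u + q • S u + r • S (S u) = 0) :
    p = 0 ∧ q = 0 ∧ r = 0 := by
  have := Fintype.linearIndependent_iff.1 (hS.indep hs he) ![p, q, r] (by simpa [Fin.sum_univ_three] using h e)
  exact ⟨this 0, this 1, this 2⟩

theorem cubic {e : W} (he : e ≠ 0) : ∃ p q r : F, ∀ u, S (S (S u)) = p • u + q • S u + r • S (S u) := by
  obtain ⟨a, b, c, h⟩ := hS.poly_eq hs he (Z := S ∘ₗ S ∘ₗ S) (fun u => rfl)
  exact ⟨a, b, c, h⟩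

/-- A cubic has at most three roots among the maps commuting with `S`. -/
theorem four_roots {p q r : F} (Z : Fin 4 → W →ₗ[F] W) (hcomm : ∀ i u, Z i (S u) = S (Z i u))
    (hroot : ∀ i u, Z i (Z i (Z i u)) = p • u + q • Z i u + r • Z i (Z i u)) {e : W} (he : e ≠ 0) :
    ∃ i j, i ≠ j ∧ Z i = Z j := by
  by_contra hc
  push Not at hc
  have cancel : ∀ A B : W →ₗ[F] W, (∀ u, A (S u) = S (A u)) → A ≠ 0 → (∀ u, A (B u) = 0) → B = 0 :=
    fun A B hA hA0 hAB => LinearMap.ext fun u => by
      by_contra hne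
      exact hA0 (hS.injective hs hA hne (hAB u))
  have hsub : ∀ i j u, (Z i - Z j) (S u) = S ((Z i - Z j) u) := fun i j u => by simp [hcomm]
  have hpair : ∀ i j, i ≠ j → ∀ u, Z i (Z i u) + Z i (Z j u) + Z j (Z j u) - r • (Z i u + Z j u) - q • u = 0 := by
    intro i j hij u
    have hc' := hS.commute_of_commute hs (hcomm i) (hcomm j)
    have := cancel (Z i - Z j) (Z i ∘ₗ Z i + Z i ∘ₗ Z j + Z j ∘ₗ Z j - r • (Z i + Z j) - q • LinearMap.id)
      (hsub i j) (sub_ne_zero.2 (hc i j hij)) fun v => by
        simp only [LinearMap.sub_apply, LinearMap.add_apply, LinearMap.smul_apply, LinearMap.comp_apply, map_add,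
          map_sub, map_smul, LinearMap.id_apply, hroot i v, hroot j v, ← hc']
        module
    simpa using LinearMap.congr_fun this u
  have htri : ∀ i j k, i ≠ j → i ≠ k → j ≠ k → ∀ u, Z i u + Z j u + Z k u = r • u := by
    intro i j k hij hik hjk u
    have := cancel (Z j - Z k) (Z i + Z j + Z k - r • LinearMap.id) (hsub j k) (sub_ne_zero.2 (hc j k hjk)) fun v => by
      have h1 := hpair i j hij v
      have h2 := hpair i k hik v
      have c1 := hS.commute_of_commute hs (hcomm i) (hcomm j)
      have c2 := hS.commute_of_commute hs (hcomm i) (hcomm k)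
      have c3 := hS.commute_of_commute hs (hcomm j) (hcomm k)
      simp only [LinearMap.sub_apply, LinearMap.add_apply, LinearMap.smul_apply, map_add, map_sub, map_smul,
        LinearMap.id_apply, ← c1, ← c2, ← c3]
      refine (Eq.trans ?_ ((congrArg₂ (· - ·) h1 h2).trans (sub_zero 0)))
      simp only [smul_add]
      module
    have := LinearMap.congr_fun this u
    simpa [sub_eq_zero] using this
  refine hc 2 3 (by decide) (LinearMap.ext fun u => ?_)
  have a := htri 0 1 2 (by decide) (by decide) (by decide) u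
  have b := htri 0 1 3 (by decide) (by decide) (by decide) u
  exact add_left_cancel (a.trans b.symm)

end Irred

namespace Frame

variable {z₀ w z₂ : W} (fr : Frame β z₀ w z₂) (hs : Setting β)
include fr hs

/-- The unipotent isometries form a family. -/
theorem exists_family : ∃ N : F → W ≃ₗ[F] W, (∀ c x y, β (N c x) (N c y) = β x y) ∧ (∀ c, N c z₀ = z₀) ∧
    (∀ c d u, N (c + d) u = N c (N d u)) ∧ ∀ c u, N c u = u → u ≠ z₀ → β z₀ u = 0 → β w u ≠ 0 → c = 0 := by
  choose N hN h0 h1 h2 using fun c => fr.exists_unip hs c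
  refine ⟨N, hN, h0, fun c d => ?_, fun c u he _ hu hu' => ?_⟩
  · have : (N (c + d)).toLinearMap = (N c).toLinearMap ∘ₗ (N d).toLinearMap := by
      refine fr.linearMap_ext ?_ ?_ ?_ <;> simp only [LinearMap.comp_apply, LinearEquiv.coe_coe]
      · rw [h0, h0, h0]
      · rw [h1, h1, map_sub, map_smul, h1, h0]
        module
      · rw [h2, h2, map_sub, map_add, map_smul, map_smul, h2, h1, h0]
        have := hs.two
        match_scalars <;> field_simp <;> ring
    exact fun u => LinearMap.congr_fun this u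
  · have e := fr.expand u
    rw [hu, zero_smul, add_zero] at e
    rw [e, map_add, map_smul, map_smul, h0, h1, smul_sub, smul_smul, add_sub, sub_eq_self, smul_eq_zero] at he
    simpa [hu', fr.hw, fr.ne0] using he

end Frame

namespace Over

variable [Fintype F] (h : Over M)
include h

theorem disjoint {L L' : Submodule F (W × W)} (hL : Mem M L) (hL' : Mem M L') (hne : L ≠ L') {p : W × W}
    (hp : p ∈ L) (hp' : p ∈ L') : p = 0 := by
  by_contra hp0
  obtain ⟨g, hg, rfl⟩ := hL
  obtain ⟨p₀, hp₀, rfl⟩ := hp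
  have ep : p₀ = (p₀.1, 0) := Prod.ext rfl (mem_linf.1 hp₀)
  have hm := hL'.map (inv_mem hg)
  refine h.one hm (fun e => hne ?_) (z := p₀.1) (fun e => hp0 (by rw [ep, e, Prod.mk_zero_zero, map_zero]))
    (ep ▸ ⟨_, hp', g.1.symm_apply_apply p₀⟩)
  rw [← e]
  refine le_antisymm ?_ fun r hr => ⟨g.1.symm r, ⟨r, hr, rfl⟩, g.1.apply_symm_apply r⟩
  rintro _ ⟨_, ⟨r, hr, rfl⟩, rfl⟩
  show g.1 (g.1.symm r) ∈ L'
  rwa [g.1.apply_symm_apply]

/-- Some member is the graph of a map without eigenvalues. -/
theorem exists_irred {g : isomGroup (form β)} (hg : g ∈ M) (hgT : ¬ IsTens g) :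
    ∃ S, Irred β S ∧ Mem M (grT S) := by
  have hs := h.hs
  haveI := hs.finite_dim
  set L := (linf F W).map g.1.toLinearMap with hLdef
  have hL : Mem M L := ⟨g, hg, rfl⟩
  have notLine : ∀ s : isomGroup (form β), IsTens s → L.map s.1.toLinearMap = linf F W → False := fun s hst he => by
    refine hgT ?_
    have hm : s * g ∈ M := mul_mem (h.hM _ hst) hg
    obtain ⟨k, e, D, -, -, hD⟩ := h.stab hm fun x => mem_linf.1 (show (s * g).1 (x, 0) ∈ linf F W by
      rw [← he]; exact ⟨g.1 (x, 0), ⟨(x, 0), rfl, rfl⟩, rfl⟩)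
    have : IsTens (s * g) := ⟨k, e, 0, 1, D, hD⟩
    have := (hst.inv hs).mul this
    rwa [inv_mul_cancel_left] at this
  have hdisj0 : ∀ p ∈ L, p.2 = 0 → p = 0 := fun p hp hp2 =>
    h.disjoint hL mem_linfMem (fun e => notLine 1 IsTens.one (by simpa using e)) hp (mem_linf.2 hp2)
  set φ : L →ₗ[F] W := LinearMap.snd F W W ∘ₗ L.subtype
  have hφi : Function.Injective φ := (injective_iff_map_eq_zero φ).2 fun p hp => Subtype.ext (hdisj0 _ p.2 hp)
  set e := φ.linearEquivOfInjective hφi (by rw [hL.finrank_eq hs, hs.dim])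
  set S : W →ₗ[F] W := LinearMap.fst F W W ∘ₗ L.subtype ∘ₗ e.symm.toLinearMap
  have hSmem : ∀ y, ((S y, y) : W × W) ∈ L := fun y => by
    have : ((e.symm y : L) : W × W).2 = y := e.apply_symm_apply y
    convert (e.symm y).2 using 1
    exact Prod.ext rfl this.symm
  have heq : L = grT S := hL.eq_of_le hs (fun p hp => mem_grT.2 (by
      have := hdisj0 _ (L.sub_mem hp (hSmem p.2)) (by simp)
      simpa [sub_eq_zero] using congrArg Prod.fst this)) fun p hp q hq => hL.isotropic
        (by have := mem_grT.1 hp; rw [show p = (S p.2, p.2) from Prod.ext this rfl]; exact hSmem _)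
        (by have := mem_grT.1 hq; rw [show q = (S q.2, q.2) from Prod.ext this rfl]; exact hSmem _)
  refine ⟨S, ⟨fun x y => ?_, fun t y hy => ?_⟩, heq ▸ hL⟩
  · have := hL.isotropic (hSmem x) (hSmem y)
    rw [form_apply, sub_eq_zero] at this
    exact this
  · set s := tr (β := β) (sa_smul_id (-t)) with hsdef
    have hst : IsTens (hs.swp * s) := hs.swp_isTens.mul (trs_isTens (β := β) (-t))
    have hm := h.hM _ hst
    have hz : (hs.swp * s).1 (S y, y) = (y, 0) := by
      rw [Subgroup.coe_mul, LinearEquiv.mul_apply, hsdef, tr_apply, Setting.swp_apply]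
      simp [hy]
    have := h.disjoint (hL.map hm) mem_linfMem (fun e => notLine _ hst e) ⟨_, hSmem y, hz⟩ (mem_linf.2 rfl)
    exact congrArg Prod.fst this

/-- The orbit is not a partial spread. -/
theorem count {S : W →ₗ[F] W} (hS : Irred β S) (hSm : Mem M (grT S)) : False := by
  classical
  have hs := h.hs
  haveI := hs.finite_dim
  have h2 := hs.two
  set q := Fintype.card F with hq
  have h5 := h.h5
  obtain ⟨z₀, hz, hz0⟩ := hs.exists_isotropic
  obtain ⟨w, z₂, fr⟩ := hs.exists_frame hz hz0
  obtain ⟨N, hN, hN0, hNadd, hNfix⟩ := fr.exists_family hs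
  have hNzero : ∀ u, N 0 u = u := fun u => by
    have := hNadd 0 0 u
    rw [add_zero] at this
    exact (N 0).injective this.symm
  -- the conjugates
  set C : F → W →ₗ[F] W := fun c => (N c).conj S with hC
  have hCap : ∀ c u, C c (N c u) = N c (S u) := fun c u => by simp [hC, LinearEquiv.conj_apply_apply]
  have hCI : ∀ c, Irred β (C c) := fun c => by
    refine ⟨fun x y => ?_, fun t y hy => ?_⟩
    · obtain ⟨x, rfl⟩ := (N c).surjective x
      obtain ⟨y, rfl⟩ := (N c).surjective y
      rw [hCap, hCap, hN, hN, hS.sa]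
    · obtain ⟨y, rfl⟩ := (N c).surjective y
      rw [hCap, ← map_smul] at hy
      rw [hS.eigen t y ((N c).injective hy), map_zero]
  have hCshift : ∀ a c u, C (a + c) (N a u) = N a (C c u) := fun a c u => by
    obtain ⟨v, rfl⟩ := (N c).surjective u
    rw [← hNadd, hCap, hCap, hNadd]
  set R : Finset F := Finset.univ.filter fun c => ∀ u, C c (S u) = S (C c u) with hR
  have hRmem : ∀ c, c ∈ R ↔ ∀ u, C c (S u) = S (C c u) := fun c => by simp [hR]
  have hR0 : (0 : F) ∈ R := (hRmem 0).2 fun u => by
    have : C 0 = S := LinearMap.ext fun v => by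
      obtain ⟨v, rfl⟩ := (N 0).surjective v
      rw [hCap, hNzero, hNzero]
    rw [this]
  have hcommC : ∀ a c u, C a (C (a + c) u) = C (a + c) (C a u) ↔ C c (S ((N a).symm u)) = S (C c ((N a).symm u)) :=
    fun a c u => by
      obtain ⟨v, rfl⟩ := (N a).surjective u
      rw [(N a).symm_apply_apply, hCshift, hCap, hCap, hCshift, (N a).injective.eq_iff]
      exact eq_comm
  have hcomm' : ∀ a b, (∀ u, C a (C b u) = C b (C a u)) ↔ b - a ∈ R := fun a b => by
    rw [hRmem]
    constructor
    · intro hh u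
      have := (hcommC a (b - a) (N a u)).1 (by rw [add_sub_cancel]; exact hh _)
      rwa [(N a).symm_apply_apply] at this
    · intro hh u
      have := (hcommC a (b - a) u).2 (hh _)
      rwa [add_sub_cancel] at this
  have hRtrans : ∀ a b c, b - a ∈ R → c - b ∈ R → c - a ∈ R := fun a b c h1 h2 => by
    refine (hcomm' a c).1 fun u => ?_
    exact (hCI b).commute_of_commute hs (Z := C a) (Z' := C c) ((hcomm' a b).2 h1)
      (fun v => ((hcomm' b c).2 h2 v).symm) u
  have hRcard : R.card ≤ 3 := by
    by_contra hc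
    obtain ⟨Q, hQR, hQ⟩ := Finset.exists_subset_card_eq (s := R) (n := 4) (by omega)
    set i4 := (Finset.equivFinOfCardEq hQ).symm
    obtain ⟨e, he⟩ : ∃ e : W, e ≠ 0 := ⟨z₀, hz⟩
    obtain ⟨p, q', r, hpqr⟩ := hS.cubic hs he
    obtain ⟨i, j, hij, hZ⟩ := hS.four_roots hs (fun i => C (i4 i : F)) (fun i => (hRmem _).1 (hQR (i4 i).2))
      (p := p) (q := q') (r := r) (fun i u => by
        obtain ⟨v, rfl⟩ := (N (i4 i : F)).surjective u
        rw [hCap, hCap, hCap, hpqr]
        simp only [map_add, map_smul]) he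
    set a := (i4 i : F)
    set b := (i4 j : F)
    have hab : a ≠ b := fun e' => hij (i4.injective (Subtype.ext e'))
    -- `N (b - a)` commutes with `S`
    have hcom : ∀ u, N (b - a) (S u) = S (N (b - a) u) := fun u => by
      have e1 : C b (N b u) = N b (S u) := hCap b u
      rw [show (b : F) = a + (b - a) by ring, hNadd, hNadd, show a + (b - a) = b by ring] at e1
      rw [show C b = C a from hZ.symm, hCap] at e1
      exact ((N a).injective e1).symm
    have hid := hS.injective hs (Z := (N (b - a)).toLinearMap - LinearMap.id) (fun u => by simp [hcom]) hz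
      (by simp [hN0])
    refine hab (sub_eq_zero.1 (hNfix (b - a) w ?_ ?_ fr.h01 fr.hw)).symm
    · exact sub_eq_zero.1 (by simpa using LinearMap.congr_fun hid w)
    · intro e'
      have := fr.hw
      rw [e'] at this
      exact this fr.h00
  -- three pairwise non-commuting conjugates
  obtain ⟨c₂, c₃, hc₂, hc₃, hc₂₃⟩ : ∃ c₂ c₃, c₂ ∉ R ∧ c₃ ∉ R ∧ c₃ - c₂ ∉ R := by
    have hR' : R.card = 1 ∨ 7 ≤ q := by
      by_contra hc
      push Not at hc
      obtain ⟨x, hx, hx0⟩ : ∃ x ∈ R, x ≠ 0 := by
        by_contra h'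
        push Not at h'
        refine hc.1 (Finset.card_eq_one.2 ⟨0, ?_⟩)
        exact Finset.eq_singleton_iff_unique_mem.2 ⟨hR0, h'⟩
      have hodd : q % 2 = 1 := by
        have hchar : ringChar F ≠ 2 := fun e => h2 (by
          have := ringChar.Nat.cast_ringChar (R := F); rw [e] at this; simpa using this)
        exact FiniteField.odd_card_of_char_ne_two hchar
      have hq5 : q = 5 := by omega
      haveI : Fact (Nat.Prime 5) := ⟨by norm_num⟩
      haveI : CharP F 5 := charP_of_card_eq_prime (hq5 : Fintype.card F = 5)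
      have hcast : ∀ k : ℕ, 0 < k → k < 5 → (k : F) ≠ 0 := fun k hk hk5 e =>
        absurd (Nat.le_of_dvd hk ((CharP.cast_eq_zero_iff F 5 k).1 e)) (by omega)
      have hmul : ∀ k : ℕ, (k : F) * x ∈ R := fun k => by
        induction k with
        | zero => simpa using hR0
        | succ k ih =>
          have := hRtrans 0 ((k : F) * x) ((k + 1 : ℕ) * x) (by simpa using ih) (by push_cast; ring_nf; exact hx)
          simpa using this
      have hsub : (Finset.range 4).image (fun k : ℕ => (k : F) * x) ⊆ R := fun y hy => by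
        obtain ⟨k, -, rfl⟩ := Finset.mem_image.1 hy; exact hmul k
      have := Finset.card_le_card hsub
      rw [Finset.card_image_of_injOn, Finset.card_range] at this
      · omega
      intro i hi j hj e
      simp only [Finset.coe_range, Set.mem_Iio] at hi hj
      have e' := mul_right_cancel₀ hx0 e
      rcases lt_trichotomy i j with l | l | l
      · exact absurd (show ((j - i : ℕ) : F) = 0 by rw [Nat.cast_sub l.le, e', sub_self]) (hcast _ (by omega) (by omega))
      · exact l
      · exact absurd (show ((i - j : ℕ) : F) = 0 by rw [Nat.cast_sub l.le, e', sub_self]) (hcast _ (by omega) (by omega))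
    obtain ⟨c₂, hc₂⟩ : ∃ c, c ∉ R := by
      by_contra hc; push Not at hc
      have : (Finset.univ : Finset F).card ≤ R.card := Finset.card_le_card fun x _ => hc x
      rw [Finset.card_univ] at this; omega
    obtain ⟨c₃, hc₃⟩ : ∃ c, c ∉ R ∪ R.image (· + c₂) := by
      by_contra hc; push Not at hc
      have : (Finset.univ : Finset F).card ≤ (R ∪ R.image (· + c₂)).card := Finset.card_le_card fun x _ => hc x
      have h' := Finset.card_union_le R (R.image (· + c₂))
      have h'' := Finset.card_image_le (s := R) (f := (· + c₂))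
      rw [Finset.card_univ] at this; omega
    rw [Finset.mem_union, not_or] at hc₃
    exact ⟨c₂, c₃, hc₂, hc₃.1, fun e => hc₃.2 (Finset.mem_image.2 ⟨_, e, sub_add_cancel _ _⟩)⟩
  set cs : Fin 3 → F := ![0, c₂, c₃] with hcs
  have hcs_ne : ∀ i j, cs i - cs j ∈ R → i = j := by
    have hneg : ∀ x, -x ∈ R → x ∈ R := fun x hx => by
      have := (hcomm' x 0).2 (by simpa using hx)
      simpa using (hcomm' 0 x).1 fun u => (this u).symm
    intro i j hij
    fin_cases i <;> fin_cases j <;> simp [hcs] at hij ⊢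
    all_goals first
      | exact hc₂ hij
      | exact hc₃ hij
      | exact hc₂₃ hij
      | exact hc₂ (hneg _ hij)
      | exact hc₃ (hneg _ hij)
      | exact hc₂₃ (hneg _ (by simpa using hij))
  -- representatives of the squares
  set sq : Finset F := (Finset.univ.filter fun a : F => a ≠ 0).image (fun a => a * a) with hsq
  have hsqcard : q - 1 ≤ 2 * sq.card := by
    have h1 : (Finset.univ.filter fun a : F => a ≠ 0).card = q - 1 := by
      rw [Finset.filter_ne' Finset.univ (0 : F), Finset.card_erase_of_mem (Finset.mem_univ _), Finset.card_univ]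
    rw [← h1, hsq]
    refine Finset.card_le_mul_card_image _ 2 fun y hy => ?_
    obtain ⟨a, -, rfl⟩ := Finset.mem_image.1 hy
    refine (Finset.card_le_card (t := ({a, -a} : Finset F)) fun x hx => ?_).trans Finset.card_le_two
    simp only [Finset.mem_filter] at hx
    simpa using mul_self_eq_mul_self_iff.1 hx.2
  choose rt hrt using fun s : sq => Finset.mem_image.1 s.2
  have hrt0 : ∀ s, rt s ≠ 0 := fun s => (Finset.mem_filter.1 (hrt s).1).2
  -- the vectors
  let Ψ : (Fin 3 × F × F × sq) × {y : W // y ≠ 0} → {v : W × W // v ≠ 0} := fun x =>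
    ⟨(rt x.1.2.2.2 • (x.2 : W) - (x.1.2.1 * (rt x.1.2.2.2)⁻¹) • (C (cs x.1.1) x.2 + x.1.2.2.1 • (x.2 : W)),
      -((rt x.1.2.2.2)⁻¹ • (C (cs x.1.1) x.2 + x.1.2.2.1 • (x.2 : W)))), fun e => by
      have e2 := congrArg Prod.snd e
      rw [Prod.snd_zero, neg_eq_zero, smul_eq_zero] at e2
      replace e2 := e2.resolve_left (inv_ne_zero (hrt0 _))
      have e1 := congrArg Prod.fst e
      rw [Prod.fst_zero, e2, smul_zero, sub_zero, smul_eq_zero] at e1
      exact x.2.2 (e1.resolve_left (hrt0 _))⟩
  have hmemC : ∀ c, Mem M (grT (C c)) := fun c => by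
    have hm := h.hM _ (rowE_isTens (N c) (hN c))
    convert hSm.map hm using 1
    ext p
    rw [mem_grT]
    constructor
    · intro e
      obtain ⟨v, hv⟩ := (N c).surjective p.2
      refine ⟨(S v, v), ⟨v, rfl⟩, ?_⟩
      show (rowE (N c) (hN c)).1 (S v, v) = p
      rw [rowE_apply, ← hCap, hv, ← e]
    · rintro ⟨_, ⟨v, rfl⟩, rfl⟩
      exact (hCap c v).symm
  have hmemΨ : ∀ k : Fin 3 × F × F × sq, ∃ L, Mem M L ∧ (∀ y, (Ψ (k, y)).1 ∈ L) ∧
      ∀ p ∈ L, p ≠ 0 → ∃ y, (Ψ (k, y)).1 = p := by
    rintro ⟨i, b, d, s⟩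
    set E := tr (β := β) (sa_smul_id b) * dil β (hrt0 s) * hs.swp * tr (β := β) (sa_smul_id d) with hE
    have hEM : E ∈ M := mul_mem (mul_mem (mul_mem (h.hM _ (trs_isTens _)) (h.hM _ (dil_isTens _)))
      (h.hM _ hs.swp_isTens)) (h.hM _ (trs_isTens _))
    have hEy : ∀ y, E.1 (C (cs i) y, y) = (rt s • y - (b * (rt s)⁻¹) • (C (cs i) y + d • y),
        -((rt s)⁻¹ • (C (cs i) y + d • y))) := fun y => by
      simp only [hE, Subgroup.coe_mul, LinearEquiv.mul_apply, tr_apply, Setting.swp_apply, dil_apply,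
        LinearMap.smul_apply, LinearMap.id_apply]
      refine Prod.ext ?_ ?_ <;> simp [smul_smul, smul_neg, sub_eq_add_neg, mul_assoc]
    refine ⟨_, (hmemC (cs i)).map hEM, fun y => ⟨_, ⟨(y : W), rfl⟩, hEy y⟩, ?_⟩
    rintro _ ⟨_, ⟨y, rfl⟩, rfl⟩ hp
    refine ⟨⟨y, fun e => hp ?_⟩, (hEy y).symm⟩
    show E.1 (C (cs i) y, y) = 0
    rw [e, map_zero, Prod.mk_zero_zero, map_zero]
  have hΨ : Function.Injective Ψ := by
    rintro ⟨k, y⟩ ⟨k', y'⟩ hkk
    obtain ⟨L, hL, hLy, hLall⟩ := hmemΨ k
    obtain ⟨L', hL', hLy', -⟩ := hmemΨ k'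
    have hLL : L = L' := by
      by_contra hne
      exact (Ψ (k, y)).2 (h.disjoint hL hL' hne (hLy y) (by rw [hkk]; exact hLy' y'))
    obtain ⟨i, b, d, s⟩ := k
    obtain ⟨i', b', d', s'⟩ := k'
    set a := rt s with ha
    set a' := rt s' with ha'
    set A : W →ₗ[F] W := C (cs i)
    set A' : W →ₗ[F] W := C (cs i')
    have hne' : a ≠ 0 := hrt0 s
    have hne'' : a' ≠ 0 := hrt0 s'
    set μ := a' * a⁻¹
    set ν := (b - b') * (a * a')⁻¹
    have hrel : ∀ u : W, a⁻¹ • (A (μ • u + ν • (A' u + d' • u)) + d • (μ • u + ν • (A' u + d' • u))) =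
        a'⁻¹ • (A' u + d' • u) := by
      intro u
      rcases eq_or_ne u 0 with rfl | hu
      · simp
      obtain ⟨⟨v, hv0⟩, hv⟩ := hLall _ (hLL ▸ hLy' ⟨u, hu⟩) (Ψ ((i', b', d', s'), ⟨u, hu⟩)).2
      have e1 := congrArg Prod.fst hv
      have e2 := congrArg Prod.snd hv
      simp only [Ψ] at e1 e2
      rw [neg_inj] at e2
      have ev : v = μ • u + ν • (A' u + d' • u) := by
        rw [mul_smul, mul_smul, e2] at e1
        have := congrArg (a⁻¹ • ·) (eq_add_of_sub_eq e1)
        simp only [← ha, smul_smul, inv_mul_cancel₀ hne', one_smul] at this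
        rw [this]
        simp only [μ, ν, ← ha', smul_add, smul_sub, smul_smul]
        match_scalars <;> field_simp <;> ring
      rw [← ev]
      exact e2
    have hY0 : ∀ u : W, μ • u + ν • (A' u + d' • u) = 0 → u = 0 := fun u hu => by
      have := hrel u
      rw [hu, map_zero, smul_zero, add_zero, smul_zero, eq_comm, smul_eq_zero] at this
      exact (hCI (cs i')).eigen (-d') u (by
        rw [neg_smul, ← sub_eq_zero, sub_neg_eq_add]; exact this.resolve_left (inv_ne_zero hne''))
    have hA : ∀ u, A (A' u) = A' (A u) := fun u => by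
      obtain ⟨u, rfl⟩ : ∃ v, μ • v + ν • (A' v + d' • v) = u := by
        have hinj : Function.Injective (μ • LinearMap.id + ν • (A' + d' • LinearMap.id) : W →ₗ[F] W) :=
          (injective_iff_map_eq_zero _).2 fun v hv => hY0 v (by simpa using hv)
        obtain ⟨v, hv⟩ := LinearMap.surjective_of_injective hinj u
        exact ⟨v, by simpa using hv⟩
      have e1 := congrArg (fun t => a • t) (hrel (A' u))
      have e2 := congrArg (fun t => a • A' t) (hrel u)
      simp only [map_add, map_smul, smul_smul, mul_inv_cancel₀ hne', one_smul, smul_add] at e1 e2 ⊢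
      rw [← sub_eq_zero] at e1 e2 ⊢
      refine Eq.trans ?_ ((congrArg₂ (· - ·) e1 e2).trans (sub_zero 0))
      match_scalars <;> field_simp <;> ring
    have hii : i = i' := (hcs_ne _ _ ((hcomm' (cs i') (cs i)).1 fun u => (hA u).symm))
    subst hii
    obtain ⟨e0, e1, e2⟩ := (hCI (cs i)).quad hs hz (p := a⁻¹ * d * (μ + ν * d') - a'⁻¹ * d')
      (q := a⁻¹ * (μ + ν * d' + d * ν) - a'⁻¹) (r := a⁻¹ * ν) (fun u => by
        have := hrel u
        rw [← sub_eq_zero] at this
        simp only [map_add, map_smul, smul_smul, smul_add] at this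
        rw [← this]
        match_scalars <;> ring)
    have hν : ν = 0 := (mul_eq_zero.1 e2).resolve_left (inv_ne_zero hne')
    have hb : b = b' := sub_eq_zero.1 ((mul_eq_zero.1 hν).resolve_right (inv_ne_zero (mul_ne_zero hne' hne'')))
    rw [hν] at e0 e1
    simp only [μ, zero_mul, mul_zero, add_zero] at e0 e1
    have haa : a * a = a' * a' := by
      field_simp at e1
      linear_combination -e1
    have hss : s = s' := Subtype.ext (by rw [← (hrt s).2, ← (hrt s').2]; exact haa)
    subst hss
    have hd : d = d' := by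
      have hh : a⁻¹ * (d - d') = 0 := by
        rw [show a' = a from rfl] at e0
        rw [mul_inv_cancel₀ hne'] at e0
        linear_combination e0
      exact sub_eq_zero.1 ((mul_eq_zero.1 hh).resolve_left (inv_ne_zero hne'))
    subst hb hd
    refine Prod.ext rfl (Subtype.ext ?_)
    have e := congrArg Subtype.val hkk
    have e2' := congrArg Prod.snd e
    have e1' := congrArg Prod.fst e
    simp only [Ψ, neg_inj] at e1' e2'
    rw [mul_smul, mul_smul, e2', sub_left_inj] at e1'
    exact smul_right_injective W hne' e1'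
  -- counting
  haveI : Finite W := Module.finite_of_finite F
  haveI : Fintype W := Fintype.ofFinite W
  have hW : Fintype.card W = q ^ 3 := by rw [Module.card_eq_pow_finrank (K := F), hs.dim]
  have hcount := Fintype.card_le_of_injective Ψ hΨ
  rw [Fintype.card_prod, Fintype.card_prod, Fintype.card_prod, Fintype.card_prod, Fintype.card_fin,
    Fintype.card_coe, Fintype.card_subtype_compl, Fintype.card_subtype_compl, Fintype.card_subtype_eq,
    Fintype.card_subtype_eq, Fintype.card_prod, hW, ← hq] at hcount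
  obtain ⟨r, hr⟩ : ∃ r, q ^ 3 = r + 1 := ⟨q ^ 3 - 1, by have : 0 < q ^ 3 := by positivity
                                                        omega⟩
  rw [hr] at hcount
  have h1 : 3 * (q * (q * sq.card)) ≤ r + 2 := by
    have hr0 : 0 < r := by
      have : 125 ≤ q ^ 3 := le_trans (by norm_num) (Nat.pow_le_pow_left h5 3)
      omega
    rw [show (r + 1) * (r + 1) - 1 = (r + 2) * r by
      rw [show (r + 1) * (r + 1) = (r + 2) * r + 1 by ring, Nat.add_sub_cancel], Nat.add_sub_cancel] at hcount
    exact Nat.le_of_mul_le_mul_right hcount hr0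
  have h3 : 3 * (q * (q * (q - 1))) ≤ 2 * (r + 2) := by
    calc 3 * (q * (q * (q - 1))) ≤ 3 * (q * (q * (2 * sq.card))) := by gcongr
      _ = 2 * (3 * (q * (q * sq.card))) := by ring
      _ ≤ 2 * (r + 2) := by omega
  obtain ⟨t, ht⟩ : ∃ t, q = t + 5 := ⟨q - 5, by omega⟩
  rw [ht] at h3 hr
  rw [show t + 5 - 1 = t + 4 by omega] at h3
  nlinarith [Nat.zero_le (t * t * t), Nat.zero_le (t * t)]

/-- The tensor isometries form a maximal subgroup. -/
theorem eq_top_of_not_tens {g : isomGroup (form β)} (hg : g ∈ M) (hgT : ¬ IsTens g) : False := by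
  obtain ⟨S, hS, hSm⟩ := h.exists_irred hg hgT
  exact h.count hS hSm

end Over

/-- An overgroup of the tensor isometries with a further element is everything. -/
theorem top_of_not_tens [Fintype F] (hs : Setting β) (h5 : 5 ≤ Fintype.card F) (hM : Contains M)
    {g : isomGroup (form β)} (hg : g ∈ M) (hgT : ¬ IsTens g) : M = ⊤ := by
  by_contra hne
  exact Over.eq_top_of_not_tens ⟨hs, h5, hM, hne⟩ hg hgT

end CfsgLib.Classical.SpTensorSix
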