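import Cfsg.Agent.Lib.Classical.SpTensorSix.Count
import Cfsg.Agent.Lib.Classical.TensorNonMax
import Cfsg.Agent.Lib.Classical.SympMatrix
import Cfsg.Agent.Lib.Classical.GSpMax

/-!
# `Sp₂(q) ⊗ O₃(q)` is maximal in `Sp₆(q)`
-/

set_option autoImplicit false
set_option linter.unusedSectionVars false
set_option backward.isDefEq.respectTransparency false

open Cfsg Matrix Module
open scoped Kronecker

namespace CfsgLib.Classical.SpTensorSix

variable {F : Type*} [Field F] [Fintype F]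

/-- Some isometry is not a tensor map. -/
theorem exists_not_tens {W : Type*} [AddCommGroup W] [Module F W] {β : W →ₗ[F] W →ₗ[F] F} (hs : Setting β) :
    ∃ g : isomGroup (form β), ¬ IsTens g := by
  haveI := hs.finite_dim
  obtain ⟨z, hz, -⟩ := hs.exists_isotropic
  refine ⟨tv hs.alt (z, 0) 1, ?_⟩
  rintro ⟨a, b, c, d, D, hg⟩
  have e : ∀ x y : W, (D (a • x + b • y), D (c • x + d • y)) = ((x + (-β y z) • z, y) : W × W) := fun x y => by
    have := hg (x, y)
    rw [tv_apply, form_apply, tmap_apply] at this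
    simpa [Prod.ext_iff] using this.symm
  have hd : ∀ y, d • D y = y := fun y => by simpa using congrArg Prod.snd (e 0 y)
  have hb : ∀ y, b • D y = (-β y z) • z := fun y => by simpa using congrArg Prod.fst (e 0 y)
  have hd0 : d ≠ 0 := fun h0 => hz (by rw [← hd z, h0, zero_smul])
  obtain ⟨u, hu, hu0⟩ := Submodule.exists_mem_ne_zero_of_ne_bot
    (fun h0 => by have := hs.finrank_perp hz; rw [h0, finrank_bot] at this; omega : LinearMap.ker (β z) ≠ ⊥)
  have hb0 : b = 0 := by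
    have h1 := hb u
    rw [hs.symm u z, LinearMap.mem_ker.1 hu, neg_zero, zero_smul, smul_eq_zero] at h1
    exact h1.resolve_right fun h0 => hu0 (by rw [← hd u, h0, smul_zero])
  obtain ⟨v, hv⟩ : ∃ v, β z v ≠ 0 := by
    by_contra hc; push Not at hc; exact hz (hs.nondeg z hc)
  have h1 := hb v
  rw [hb0, zero_smul, eq_comm, smul_eq_zero, neg_eq_zero, hs.symm v z] at h1
  exact h1.elim hv hz

/-- The stabiliser of the tensor decomposition is maximal in `Sp₆`. -/
theorem tensor_maximal (hodd : Odd (Fintype.card F)) (h5 : 5 ≤ Fintype.card F)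
    (e : (Fin 3 ⊕ Fin 3) ≃ Fin 2 × Fin 3) (P : GL (Fin 3 ⊕ Fin 3) F)
    {f₁ : (Fin 2 → F) → (Fin 2 → F) → F} {f₂ : (Fin 3 → F) → (Fin 3 → F) → F}
    (hf₁ : Cfsg.Geo.IsSymplecticForm f₁) (hf₂ : Cfsg.Geo.IsSymmetricForm f₂)
    (hT : Cfsg.Geo.IsTensorFormStructure id (Cfsg.sympForm 3 F) f₁ f₂ e P) :
    Cfsg.Geo.IsMaximalIn (Cfsg.spGL 3 F) (Cfsg.Geo.tensorProductSubgroup 2 3 e P ⊓ Cfsg.spGL 3 F) := by
  classical
  have h2 : (2 : F) ≠ 0 := by
    intro h0
    have hc : ringChar F = 2 := CharP.ringChar_of_prime_eq_zero Nat.prime_two (by exact_mod_cast h0)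
    rw [← Nat.not_even_iff_odd, Nat.even_iff] at hodd
    exact hodd (FiniteField.even_card_of_char_two hc)
  obtain ⟨c, hc, hf⟩ := TensorNonMax.tmap_form e P (σ := id) (fun _ _ => rfl) hT
  set δ := f₁ (Pi.single 0 1) (Pi.single 1 1) with hδ
  have hf1 : ∀ u u' : Fin 2 → F, f₁ u u' = δ * (u 0 * u' 1 - u 1 * u' 0) := by
    intro u u'
    have expand : ∀ w : Fin 2 → F, w = w 0 • Pi.single 0 1 + w 1 • Pi.single 1 1 := fun w => by
      ext i; fin_cases i <;> simp
    conv_lhs => rw [expand u, expand u']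
    simp only [hf₁.bilinear.add_left, hf₁.bilinear.add_right, hf₁.bilinear.smul_left, hf₁.bilinear.smul_right,
      hf₁.alternating, hf₁.skew (Pi.single (1 : Fin 2) 1) (Pi.single 0 1), ← hδ, smul_eq_mul]
    ring
  have hδ0 : δ ≠ 0 := fun h0 => by
    obtain ⟨-, y, hy⟩ := hf₁.nondegenerate (Pi.single (0 : Fin 2) (1 : F)) (by simp)
    exact hy (by rw [hf1, h0, zero_mul])
  set β : (Fin 3 → F) →ₗ[F] (Fin 3 → F) →ₗ[F] F := LinearMap.mk₂ F (fun x y => c * δ * f₂ x y)
    (fun x y v => by rw [hf₂.bilinear.add_left, mul_add])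
    (fun t x v => by rw [hf₂.bilinear.smul_left, smul_eq_mul]; ring)
    (fun v x y => by rw [hf₂.bilinear.add_right, mul_add])
    (fun t v x => by rw [hf₂.bilinear.smul_right, smul_eq_mul]; ring) with hβ
  have hβa : ∀ x y, β x y = c * δ * f₂ x y := fun x y => rfl
  have hs : Setting β := by
    refine ⟨fun x y => by rw [hβa, hβa, hf₂.symm], fun x hx => ?_, by simp, h2⟩
    by_contra hne
    obtain ⟨-, y, hy⟩ := hf₂.nondegenerate x hne
    exact hy ((mul_eq_zero.1 (hx y)).resolve_left (mul_ne_zero hc hδ0))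
  -- coordinates
  let E₀ : ((Fin 3 → F) × (Fin 3 → F)) ≃ₗ[F] (Fin 2 × Fin 3 → F) :=
    { toFun := fun p rs => if rs.1 = 0 then p.1 rs.2 else p.2 rs.2
      map_add' := fun p q => by ext ⟨r, s⟩; fin_cases r <;> simp
      map_smul' := fun t p => by ext ⟨r, s⟩; fin_cases r <;> simp
      invFun := fun X => (fun s => X (0, s), fun s => X (1, s))
      left_inv := fun p => by simp
      right_inv := fun X => by ext ⟨r, s⟩; fin_cases r <;> simp }
  have hE₀0 : ∀ p s, E₀ p (0, s) = p.1 s := fun p s => by simp [E₀]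
  have hE₀1 : ∀ p s, E₀ p (1, s) = p.2 s := fun p s => by simp [E₀]
  let Pl : (Fin 3 ⊕ Fin 3 → F) ≃ₗ[F] (Fin 3 ⊕ Fin 3 → F) :=
    { Matrix.toLin' (P : Matrix _ _ F) with
      invFun := fun x => ((P⁻¹ : GL (Fin 3 ⊕ Fin 3) F) : Matrix (Fin 3 ⊕ Fin 3) (Fin 3 ⊕ Fin 3) F) *ᵥ x
      left_inv := fun x => by simp [mulVec_mulVec, ← Units.val_mul]
      right_inv := fun x => by simp [mulVec_mulVec, ← Units.val_mul] }
  let Φ := E₀ ≪≫ₗ LinearEquiv.funCongrLeft F F e ≪≫ₗ Pl
  have hΦ : ∀ p, Φ p = (P : Matrix _ _ F) *ᵥ (E₀ p ∘ e) := fun p => rfl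
  have hΦform : ∀ p q, sympBil F 3 (Φ p) (Φ q) = form β p q := by
    intro p q
    have hdec : ∀ p, Φ p = TensorNonMax.tmap e P (Pi.single 0 1) p.1 + TensorNonMax.tmap e P (Pi.single 1 1) p.2 :=
      fun p => by
        rw [hΦ, TensorNonMax.tmap_apply, TensorNonMax.tmap_apply, ← Matrix.mulVec_add]
        congr 1
        funext i
        rcases h : e i with ⟨r, s⟩
        fin_cases r <;> simp [h, E₀]
    have g2 : ∀ x y, Cfsg.Geo.formOfGram id (Cfsg.Geo.gramMatrix f₂) x y = f₂ x y :=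
      TensorNonMax.gram_expand hf₂.bilinear.add_left hf₂.bilinear.smul_left hf₂.bilinear.add_right
        (fun t v x => hf₂.bilinear.smul_right t v x)
    have g1 : ∀ x y, Cfsg.Geo.formOfGram id (Cfsg.Geo.gramMatrix f₁) x y = f₁ x y :=
      TensorNonMax.gram_expand hf₁.bilinear.add_left hf₁.bilinear.smul_left hf₁.bilinear.add_right
        (fun t v x => hf₁.bilinear.smul_right t v x)
    have hb : ∀ u u' w w', sympBil F 3 (TensorNonMax.tmap e P u w) (TensorNonMax.tmap e P u' w') =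
        c * (f₁ u u' * f₂ w w') := fun u u' w w' => by rw [sympBil_apply, hf, g1, g2]
    rw [hdec p, hdec q]
    simp only [map_add, LinearMap.add_apply, hb, hf1, form_apply, hβa]
    simp
    ring
  let ι := isomGroupCongr Φ hΦform
  let eG := ((spEquiv (F := F) (m := 3)).symm.trans (spGLEquiv 3))
  let ψ : isomGroup (form β) →* GL (Fin 3 ⊕ Fin 3) F :=
    ((Cfsg.spGL 3 F).subtype.comp eG.toMonoidHom).comp ι.toMonoidHom
  have hψ : ∀ g p, (ψ g : Matrix _ _ F) *ᵥ Φ p = Φ (g.1 p) := fun g p => by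
    change ((spEquiv (F := F) (m := 3)).symm (ι g)).1.mulVec (Φ p) = Φ (g.1 p)
    rw [← spEquiv_apply, MulEquiv.apply_symm_apply]
    show Φ (g.1 (Φ.symm (Φ p))) = _
    rw [Φ.symm_apply_apply]
  have hψmem : ∀ g, ψ g ∈ Cfsg.spGL 3 F := fun g => Subtype.prop (eG (ι g))
  have hψs : ∀ t ∈ Cfsg.spGL 3 F, ∃ g, ψ g = t := fun t ht => ⟨ι.symm (eG.symm ⟨t, ht⟩), by
    show ((eG (ι (ι.symm (eG.symm ⟨t, ht⟩)))) : GL (Fin 3 ⊕ Fin 3) F) = t
    rw [MulEquiv.apply_symm_apply, MulEquiv.apply_symm_apply]⟩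
  have hkr : ∀ (A : Matrix (Fin 2) (Fin 2) F) (B : Matrix (Fin 3) (Fin 3) F) (p : (Fin 3 → F) × (Fin 3 → F)),
      Matrix.reindex e.symm e.symm (A ⊗ₖ B) *ᵥ (E₀ p ∘ e) =
        E₀ (SpTensorSix.tmap (A 0 0) (A 0 1) (A 1 0) (A 1 1) (Matrix.mulVecLin B) p) ∘ e := by
    intro A B p
    rw [Matrix.reindex_apply, Equiv.symm_symm, Matrix.submatrix_mulVec_equiv]
    congr 1
    have hee : (E₀ p ∘ e) ∘ e.symm = E₀ p := by funext x; simp
    rw [hee]
    funext ⟨r, s⟩
    simp only [Matrix.mulVec, dotProduct, Matrix.kroneckerMap_apply, Fintype.sum_prod_type, Fin.sum_univ_two, hE₀0,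
      hE₀1, SpTensorSix.tmap_apply]
    fin_cases r <;> simp [E₀, Matrix.mulVec, dotProduct, Finset.mul_sum, mul_assoc, mul_comm, mul_left_comm, mul_add,
      Finset.sum_add_distrib]
  have hiff : ∀ g, ψ g ∈ Cfsg.Geo.tensorProductSubgroup 2 3 e P ↔ IsTens g := by
    intro g
    constructor
    · intro hm
      obtain ⟨G, hG, hGe⟩ := Subgroup.mem_map.1 hm
      obtain ⟨K, ⟨a, b, hK⟩, hKe⟩ := Subgroup.mem_map.1 hG
      refine ⟨(a : Matrix (Fin 2) (Fin 2) F) 0 0, (a : Matrix (Fin 2) (Fin 2) F) 0 1, (a : Matrix (Fin 2) (Fin 2) F) 1 0, (a : Matrix (Fin 2) (Fin 2) F) 1 1,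
        Matrix.mulVecLin (b : Matrix (Fin 3) (Fin 3) F), fun p => Φ.injective ?_⟩
      rw [← hψ, ← hGe]
      change ((MulAut.conj P G : GL (Fin 3 ⊕ Fin 3) F) : Matrix (Fin 3 ⊕ Fin 3) (Fin 3 ⊕ Fin 3) F) *ᵥ _ = _
      rw [hΦ, hΦ, MulAut.conj_apply, Units.val_mul, Units.val_mul, Matrix.mulVec_mulVec, Matrix.mul_assoc _ _ (P : Matrix (Fin 3 ⊕ Fin 3) (Fin 3 ⊕ Fin 3) F),
        ← Units.val_mul P⁻¹, inv_mul_cancel, Units.val_one, Matrix.mul_one, ← Matrix.mulVec_mulVec]
      congr 1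
      rw [← hKe]
      show Matrix.reindex e.symm e.symm (K : Matrix _ _ F) *ᵥ _ = _
      rw [hK, hkr]
    · rintro ⟨a, b, c', d, D, hg⟩
      have hgi := g.1.injective
      have hD : Function.Injective D := (injective_iff_map_eq_zero D).2 fun v hv => by
        have h0 : g.1 (v, 0) = 0 := by
          rw [hg, tmap_apply]
          simp [hv]
        exact congrArg Prod.fst (hgi (h0.trans (map_zero g.1).symm))
      have hdet : a * d - b * c' ≠ 0 := by
        intro h0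
        obtain ⟨v, hv, -⟩ := hs.exists_isotropic
        have h1 : g.1 (b • v, -(a • v)) = 0 := by
          rw [hg, tmap_apply]
          have e1 : a • (b • v) + b • -(a • v) = (0 : Fin 3 → F) := by simp [smul_smul, mul_comm]
          have e2 : c' • (b • v) + d • -(a • v) = (0 : Fin 3 → F) := by
            rw [smul_neg, smul_smul, smul_smul, ← sub_eq_add_neg, ← sub_smul,
              show c' * b - d * a = 0 by linear_combination -h0, zero_smul]
          rw [e1, e2, map_zero, Prod.mk_zero_zero]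
        have h3 := hgi (h1.trans (map_zero g.1).symm)
        rw [Prod.ext_iff] at h3
        simp [hv] at h3
        obtain ⟨p, hp⟩ := g.1.surjective ((v, 0) : (Fin 3 → F) × (Fin 3 → F))
        rw [hg, tmap_apply, h3.1, h3.2] at hp
        simp at hp
        exact hv hp.1.symm
      let A : Matrix (Fin 2) (Fin 2) F := !![a, b; c', d]
      have hA : A.det ≠ 0 := by rw [Matrix.det_fin_two]; simpa [A] using hdet
      let B : Matrix (Fin 3) (Fin 3) F := LinearMap.toMatrix' D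
      have hB : B.det ≠ 0 := by
        intro h0
        obtain ⟨v, hv, hvz⟩ := Matrix.exists_mulVec_eq_zero_iff.2 h0
        rw [show B *ᵥ v = D v from LinearMap.toMatrix'_mulVec D v] at hvz
        exact hv (hD (hvz.trans (map_zero D).symm))
      let K : GL (Fin 2 × Fin 3) F := GeneralLinearGroup.mkOfDetNeZero (A ⊗ₖ B) (by
        rw [Matrix.det_kronecker]; exact mul_ne_zero (pow_ne_zero _ hA) (pow_ne_zero _ hB))
      refine Subgroup.mem_map.2 ⟨Cfsg.Geo.glReindex e.symm K, Subgroup.mem_map.2 ⟨K,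
        ⟨GeneralLinearGroup.mkOfDetNeZero A hA, GeneralLinearGroup.mkOfDetNeZero B hB, rfl⟩, rfl⟩, ?_⟩
      refine Units.ext (Matrix.ext_iff_mulVec.2 fun x => ?_)
      obtain ⟨p, rfl⟩ := Φ.surjective x
      rw [hψ]
      change ((MulAut.conj P _ : GL (Fin 3 ⊕ Fin 3) F) : Matrix (Fin 3 ⊕ Fin 3) (Fin 3 ⊕ Fin 3) F) *ᵥ _ = _
      rw [hΦ, hΦ, MulAut.conj_apply, Units.val_mul, Units.val_mul, Matrix.mulVec_mulVec, Matrix.mul_assoc _ _ (P : Matrix (Fin 3 ⊕ Fin 3) (Fin 3 ⊕ Fin 3) F),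
        ← Units.val_mul P⁻¹, inv_mul_cancel, Units.val_one, Matrix.mul_one, ← Matrix.mulVec_mulVec]
      congr 1
      show Matrix.reindex e.symm e.symm (A ⊗ₖ B) *ᵥ _ = _
      rw [hkr, hg]
      have : Matrix.mulVecLin B = D := LinearMap.ext fun v => LinearMap.toMatrix'_mulVec D v
      simp [A, this]
  refine ⟨lt_of_le_not_ge inf_le_right fun h => ?_, fun M hM hMS => ?_⟩
  · obtain ⟨g, hg⟩ := exists_not_tens hs
    exact hg ((hiff g).1 (h (hψmem g)).1)
  · by_cases hMQ : M ≤ Cfsg.Geo.tensorProductSubgroup 2 3 e P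
    · exact Or.inl (le_antisymm (le_inf hMQ hMS) hM)
    obtain ⟨s, hs', hsD⟩ := SetLike.not_le_iff_exists.1 hMQ
    obtain ⟨g, rfl⟩ := hψs s (hMS hs')
    have htop := top_of_not_tens hs h5 (M := M.comap ψ) (fun t ht => hM ⟨(hiff t).2 ht, hψmem t⟩) (g := g) hs'
      (fun h => hsD ((hiff g).2 h))
    refine Or.inr (le_antisymm hMS fun t ht => ?_)
    obtain ⟨g', rfl⟩ := hψs t ht
    exact (htop ▸ Subgroup.mem_top g' : g' ∈ M.comap ψ)

end CfsgLib.Classical.SpTensorSix
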