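import Cfsg.Agent.Lib.Classical.SpTensorSix.Top

/-!
# Members of the orbit of a Lagrangian meet trivially
-/

set_option autoImplicit false
set_option linter.unusedSectionVars false

namespace CfsgLib.Classical.SpTensorSix

open Module CfsgLib.Classical

variable {F W : Type*} [Field F] [AddCommGroup W] [Module F W] {β : W →ₗ[F] W →ₗ[F] F}
  {M : Subgroup (isomGroup (form β))}

/-- The Lagrangian of pairs `(x, 0)`. -/
def linf (F W : Type*) [Field F] [AddCommGroup W] [Module F W] : Submodule F (W × W) :=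
  LinearMap.ker (LinearMap.snd F W W)

theorem mem_linf {p : W × W} : p ∈ linf F W ↔ p.2 = 0 := Iff.rfl

/-- The members of the orbit. -/
def Mem (M : Subgroup (isomGroup (form β))) (L : Submodule F (W × W)) : Prop :=
  ∃ g ∈ M, (linf F W).map g.1.toLinearMap = L

/-- The hypotheses of the overgroup argument. -/
structure Over (M : Subgroup (isomGroup (form β))) [Fintype F] : Prop where
  hs : Setting β
  h5 : 5 ≤ Fintype.card F
  hM : Contains M
  hne : M ≠ ⊤

theorem mem_linfMem : Mem M (linf F W) := ⟨1, one_mem M, by simp⟩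

theorem Mem.map {L : Submodule F (W × W)} (h : Mem M L) {g : isomGroup (form β)} (hg : g ∈ M) :
    Mem M (L.map g.1.toLinearMap) := by
  obtain ⟨k, hk, rfl⟩ := h
  exact ⟨g * k, mul_mem hg hk, by rw [← Submodule.map_comp]; rfl⟩

theorem Mem.isotropic {L : Submodule F (W × W)} (h : Mem M L) {p q : W × W} (hp : p ∈ L) (hq : q ∈ L) :
    form β p q = 0 := by
  obtain ⟨k, -, rfl⟩ := h
  obtain ⟨p', hp', rfl⟩ := hp
  obtain ⟨q', hq', rfl⟩ := hq
  show form β (k.1 p') (k.1 q') = 0
  rw [k.2, form_apply, mem_linf.1 hp', mem_linf.1 hq']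
  simp

theorem Mem.maximal (hs : Setting β) {L : Submodule F (W × W)} (h : Mem M L) {p : W × W}
    (hp : ∀ q ∈ L, form β q p = 0) : p ∈ L := by
  obtain ⟨k, -, rfl⟩ := h
  refine ⟨k.1.symm p, mem_linf.2 (hs.nondeg _ fun x => ?_), k.1.apply_symm_apply p⟩
  have := hp (k.1 (x, 0)) ⟨(x, 0), rfl, rfl⟩
  rw [← k.1.apply_symm_apply p, k.2, form_apply] at this
  simpa [hs.symm x] using this

theorem Mem.eq_of_le (hs : Setting β) {L L' : Submodule F (W × W)} (h : Mem M L) (hle : L ≤ L')
    (hiso : ∀ p ∈ L', ∀ q ∈ L', form β p q = 0) : L = L' :=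
  le_antisymm hle fun p hp => h.maximal hs fun q hq => hiso q (hle hq) p hp

theorem Mem.finrank_eq (hs : Setting β) {L : Submodule F (W × W)} (h : Mem M L) : finrank F L = 3 := by
  haveI := hs.finite_dim
  obtain ⟨k, -, rfl⟩ := h
  have e : finrank F (linf F W) = finrank F W :=
    (LinearEquiv.finrank_eq
      { toFun := fun p => p.1.1
        map_add' := fun _ _ => rfl
        map_smul' := fun _ _ => rfl
        invFun := fun x => ⟨(x, 0), rfl⟩
        left_inv := fun p => Subtype.ext (Prod.ext rfl (mem_linf.1 p.2).symm)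
        right_inv := fun x => rfl })
  rw [show k.1.toLinearMap = (k.1 : (W × W) →ₗ[F] W × W) from rfl, LinearEquiv.finrank_map_eq, e, hs.dim]

/-- The difference `η` of a conjugate of `(x, y) ↦ (x + y, y)` and the identity. -/
def eta (g : isomGroup (form β)) : (W × W) →ₗ[F] (W × W) :=
  g.1.toLinearMap ∘ₗ LinearMap.inl F W W ∘ₗ LinearMap.snd F W W ∘ₗ g.1.symm.toLinearMap

/-- The conjugate of `(x, y) ↦ (x + r y, y)`. -/
def conjTr (g : isomGroup (form β)) (r : F) : isomGroup (form β) := g * tr (β := β) (sa_smul_id r) * g⁻¹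

theorem conjTr_apply (g : isomGroup (form β)) (r : F) (p : W × W) : (conjTr g r).1 p = p + r • eta g p := by
  obtain ⟨q, rfl⟩ := g.1.surjective p
  show g.1 ((tr (β := β) (sa_smul_id r)).1 (g.1.symm (g.1 q))) = g.1 q + r • g.1 ((g.1.symm (g.1 q)).2, 0)
  rw [g.1.symm_apply_apply, tr_apply, ← map_smul, ← map_add]
  congr 1
  simp [Prod.ext_iff]

theorem eta_mem {L : Submodule F (W × W)} {g : isomGroup (form β)} (hgL : (linf F W).map g.1.toLinearMap = L)
    (p : W × W) : eta g p ∈ L := hgL ▸ ⟨((g.1.symm p).2, 0), rfl, rfl⟩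

theorem eta_vanish {L : Submodule F (W × W)} {g : isomGroup (form β)} (hgL : (linf F W).map g.1.toLinearMap = L)
    {p : W × W} (hp : p ∈ L) : eta g p = 0 := by
  rw [← hgL] at hp
  obtain ⟨q, hq, rfl⟩ := hp
  show g.1 ((g.1.symm (g.1 q)).2, 0) = 0
  rw [g.1.symm_apply_apply, mem_linf.1 hq, Prod.mk_zero_zero, map_zero]

theorem eta_form (hs : Setting β) (g : isomGroup (form β)) (u v : W × W) :
    form β (eta g u) v = form β (eta g v) u := by
  obtain ⟨u', rfl⟩ := g.1.surjective u
  obtain ⟨v', rfl⟩ := g.1.surjective v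
  show form β (g.1 ((g.1.symm (g.1 u')).2, 0)) (g.1 v') = form β (g.1 ((g.1.symm (g.1 v')).2, 0)) (g.1 u')
  rw [g.1.symm_apply_apply, g.1.symm_apply_apply, g.2, g.2, form_apply, form_apply]
  simp [hs.symm u'.2]

namespace Over

variable [Fintype F] (h : Over M)
include h

theorem stab {g : isomGroup (form β)} (hg : g ∈ M) (hfix : ∀ x, (g.1 (x, 0)).2 = 0) :
    ∃ (k e : F) (D : W →ₗ[F] W), k ≠ 0 ∧ (∀ x y, k * β (D x) (D y) = β x y) ∧ ∀ p, g.1 p = tmap k e 0 1 D p :=
  stab_form h.h5 h.hs h.hM h.hne hg hfix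

theorem map_le_eq {L : Submodule F (W × W)} (hL : Mem M L) {g : isomGroup (form β)} (hg : g ∈ M)
    {L' : Submodule F (W × W)} (hL' : Mem M L') (hle : ∀ p ∈ L, g.1 p ∈ L') : L.map g.1.toLinearMap = L' :=
  (hL.map hg).eq_of_le h.hs (by rintro _ ⟨p, hp, rfl⟩; exact hle p hp) fun _ hp _ hq => hL'.isotropic hp hq

/-- Only the axis of `(x, y) ↦ (x + y, y)` is fixed by it. -/
theorem rigid {L : Submodule F (W × W)} (hL : Mem M L) (hfix : ∀ p ∈ L, (p.1 + p.2, p.2) ∈ L) : L = linf F W := by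
  have hs := h.hs
  obtain ⟨g, hg, hgL⟩ := hL
  have hLm : Mem M L := ⟨g, hg, hgL⟩
  have hx := h.hM _ (trs_isTens (β := β) (1 : F))
  set T : isomGroup (form β) := g⁻¹ * tr (β := β) (sa_smul_id (1 : F)) * g with hT
  have hTm : T ∈ M := mul_mem (mul_mem (inv_mem hg) hx) hg
  have hgT : ∀ q, g.1 (T.1 q) = ((g.1 q).1 + (g.1 q).2, (g.1 q).2) := fun q => by
    show g.1 (g.1.symm ((tr (β := β) (sa_smul_id (1 : F))).1 (g.1 q))) = _
    rw [g.1.apply_symm_apply, tr_apply]
    simp
  have hTT : ∀ q, T.1 (T.1 q) - T.1 q = T.1 q - q := fun q => by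
    refine g.1.injective ?_
    rw [map_sub, map_sub, hgT, hgT]
    simp [Prod.ext_iff]
  have hTfix : ∀ x, (T.1 (x, 0)).2 = 0 := fun x => by
    have hm : g.1 (T.1 (x, 0)) ∈ L := by
      rw [hgT]; exact hfix _ (hgL ▸ ⟨(x, 0), rfl, rfl⟩)
    rw [← hgL] at hm
    obtain ⟨q, hq, e⟩ := hm
    rw [← g.1.injective e]
    exact mem_linf.1 hq
  obtain ⟨k, e, D, hk, hD, hTD⟩ := h.stab hTm hTfix
  obtain ⟨N, hN⟩ : ∃ N : W →ₗ[F] W, ∀ y, D y = y + N y := ⟨D - LinearMap.id, fun y => by simp⟩
  have hNN : ∀ y, N (N y) = 0 := fun y => by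
    have := congrArg Prod.snd (hTT (0, y))
    simp only [hTD, tmap_apply, Prod.snd_sub, smul_zero, zero_add, one_smul, zero_smul, hN, map_add] at this
    simpa using this
  have hβ : ∀ x y, k * (β x y + β x (N y) + β (N x) y + β (N x) (N y)) = β x y := fun x y => by
    have := hD x y
    rw [hN, hN] at this; simp only [map_add, LinearMap.add_apply] at this; linear_combination this
  have hk1 : k = 1 := by
    by_contra hk1
    have h1 : ∀ x y, k * (β x (N y) + β (N x) (N y)) = β x (N y) := fun x y => by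
      have := hβ x (N y); rw [hNN, map_zero, map_zero] at this; linear_combination this
    have h2 : ∀ a b, β (N a) (N b) = 0 := fun a b => by
      have := h1 (N a) b
      rw [hNN, map_zero, LinearMap.zero_apply, add_zero] at this
      exact (mul_eq_zero.1 (show (k - 1) * β (N a) (N b) = 0 by linear_combination this)).resolve_left
        (sub_ne_zero.2 hk1)
    have hN0 : ∀ y, N y = 0 := fun y => hs.nondeg _ fun x => by
      have := h1 x y
      rw [h2, add_zero] at this
      rw [hs.symm]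
      exact (mul_eq_zero.1 (show (k - 1) * β x (N y) = 0 by linear_combination this)).resolve_left (sub_ne_zero.2 hk1)
    obtain ⟨z, hz, hz0⟩ := hs.exists_isotropic
    obtain ⟨w, z₂, fr⟩ := hs.exists_frame hz hz0
    have := hβ z z₂
    simp [hN0, fr.h02] at this
    exact hk1 this
  subst hk1
  simp only [one_mul] at hβ
  have hiso : ∀ a b, β (N a) (N b) = 0 := fun a b => by
    have := hβ (N a) b; rw [hNN, map_zero] at this; simpa using this
  have hskew : ∀ x y, β x (N y) = -β (N x) y := fun x y => by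
    linear_combination hβ x y - hiso x y
  have hN0 : ∀ y, N y = 0 := fun a => by
    by_contra hr
    obtain ⟨x, hx1⟩ : ∃ x, β (N a) x = 1 := by
      obtain ⟨v, hv⟩ : ∃ v, β (N a) v ≠ 0 := by
        by_contra hc; push Not at hc; exact hr (hs.nondeg _ hc)
      exact ⟨(β (N a) v)⁻¹ • v, by simp [hv]⟩
    obtain ⟨c, hc⟩ := hs.isotropic_dep hr (hiso a a) (hiso x x) (hiso a x)
    have e1 := hskew x x
    rw [hc, map_smul, map_smul, LinearMap.smul_apply, hs.symm x (N a), hx1, smul_eq_mul, mul_one] at e1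
    have hc0 : c = 0 := (mul_eq_zero.1 (show 2 * c = 0 by linear_combination e1)).resolve_left hs.two
    rw [hc0, zero_smul] at hc
    have e2 := hskew x a
    rw [hs.symm x, hx1, hc, map_zero, LinearMap.zero_apply, neg_zero] at e2
    exact one_ne_zero e2
  refine hLm.eq_of_le hs ?_ fun p hp q hq => by rw [form_apply, mem_linf.1 hp, mem_linf.1 hq]; simp
  rw [← hgL]
  rintro _ ⟨⟨x, y⟩, hxy, rfl⟩
  have hy : y = 0 := mem_linf.1 hxy
  have := congrArg Prod.fst (hgT (x, y))
  rw [hTD, tmap_apply, hy] at this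
  simp [hN, hN0] at this
  show (g.1 (x, y)).2 = 0
  rw [hy]
  exact this

theorem rigid_conj {L : Submodule F (W × W)} {g : isomGroup (form β)} (hg : g ∈ M)
    (hgL : (linf F W).map g.1.toLinearMap = L) (hfix : ∀ x : W, ((conjTr g 1).1 (x, 0)).2 = 0) : L = linf F W := by
  have e : (linf F W).map (g⁻¹).1.toLinearMap = linf F W := by
    refine h.rigid (mem_linfMem.map (inv_mem hg)) ?_
    rintro _ ⟨p, hp, rfl⟩
    refine ⟨(conjTr g 1).1 p, mem_linf.2 (by rw [show p = (p.1, 0) from Prod.ext rfl (mem_linf.1 hp)]; exact hfix _), ?_⟩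
    show g.1.symm (g.1 ((tr (β := β) (sa_smul_id 1)).1 (g.1.symm p))) = _
    rw [g.1.symm_apply_apply, tr_apply]
    simp only [one_smul, LinearMap.id_apply]
    rfl
  rw [← hgL]
  conv_lhs => rw [← e]
  refine le_antisymm ?_ fun q hq => ⟨g.1.symm q, ⟨q, hq, rfl⟩, g.1.apply_symm_apply q⟩
  rintro _ ⟨_, ⟨q, hq, rfl⟩, rfl⟩
  show g.1 (g.1.symm q) ∈ linf F W
  rwa [g.1.apply_symm_apply]

end Over

end CfsgLib.Classical.SpTensorSix
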