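import Cfsg.Agent.Lib.Classical.SpTensorSix.Two

/-!
# No two members meet in a point
-/

set_option autoImplicit false
set_option linter.unusedSectionVars false

namespace CfsgLib.Classical.SpTensorSix

open Module CfsgLib.Classical

variable {F W : Type*} [Field F] [AddCommGroup W] [Module F W] {β : W →ₗ[F] W →ₗ[F] F}
  {M : Subgroup (isomGroup (form β))}

/-- The projection on the perpendicular plane of `z`. -/
def pproj (β : W →ₗ[F] W →ₗ[F] F) (z : W) : W →ₗ[F] W :=
  LinearMap.id - ((β z z)⁻¹ • β z).smulRight z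

theorem pproj_apply (z u : W) : pproj β z u = u - (β z u * (β z z)⁻¹) • z := by
  simp [pproj, mul_comm]

theorem pproj_self {z : W} (hz : β z z ≠ 0) : pproj β z z = 0 := by simp [pproj_apply, hz]

theorem pproj_of_perp {z u : W} (h : β z u = 0) : pproj β z u = u := by simp [pproj_apply, h]

theorem perp_pproj {z : W} (hz : β z z ≠ 0) (u : W) : β z (pproj β z u) = 0 := by
  simp [pproj_apply, mul_assoc, hz]

/-- The Lagrangian of a map of the plane. -/
def graphZ (β : W →ₗ[F] W →ₗ[F] F) (z : W) (S : W →ₗ[F] W) : Submodule F (W × W) :=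
  LinearMap.ker ((β z) ∘ₗ LinearMap.snd F W W) ⊓
    LinearMap.ker (pproj β z ∘ₗ LinearMap.fst F W W - S ∘ₗ LinearMap.snd F W W)

theorem mem_graphZ {z : W} {S : W →ₗ[F] W} {p : W × W} :
    p ∈ graphZ β z S ↔ β z p.2 = 0 ∧ pproj β z p.1 = S p.2 := by
  simp [graphZ, sub_eq_zero]

/-- A member through `(z, 0)` with its map of the plane. -/
def MemS (M : Subgroup (isomGroup (form β))) (z : W) (S : W →ₗ[F] W) : Prop :=
  SA β S ∧ S z = 0 ∧ Mem M (graphZ β z S)

namespace MemS

variable {z : W} {S : W →ₗ[F] W}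

theorem perp_range (hS : MemS M z S) (u : W) : β z (S u) = 0 := by
  rw [← hS.1, hS.2.1, map_zero, LinearMap.zero_apply]

theorem pair_mem (hS : MemS M z S) {y : W} (hy : β z y = 0) : ((S y, y) : W × W) ∈ graphZ β z S :=
  mem_graphZ.2 ⟨hy, pproj_of_perp (hS.perp_range y)⟩

theorem z_mem (hS : MemS M z S) (hz : β z z ≠ 0) : ((z, 0) : W × W) ∈ graphZ β z S :=
  mem_graphZ.2 ⟨by simp, by simp [pproj_self hz]⟩

end MemS

theorem graphZ_isotropic (hs : Setting β) {z : W} (hz : β z z ≠ 0) {S : W →ₗ[F] W} (hS : SA β S)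
    {p : W × W} (hp : p ∈ graphZ β z S) {q : W × W} (hq : q ∈ graphZ β z S) : form β p q = 0 := by
  obtain ⟨hp2, hp1⟩ := mem_graphZ.1 hp
  obtain ⟨hq2, hq1⟩ := mem_graphZ.1 hq
  have key : ∀ u y : W, β z y = 0 → β u y = β (pproj β z u) y := fun u y hy => by
    simp [pproj_apply, hy]
  rw [form_apply, key _ _ hq2, hp1, hs.symm p.2, key _ _ hp2, hq1, hS, hs.symm, sub_self]

namespace Over

variable [Fintype F] (h : Over M)
include h

theorem memS_of_le {z : W} (hz : β z z ≠ 0) {S : W →ₗ[F] W} (hS : SA β S) (hSz : S z = 0) {L : Submodule F (W × W)}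
    (hL : Mem M L) (hle : L ≤ graphZ β z S) : MemS M z S := by
  refine ⟨hS, hSz, ?_⟩
  rw [← hL.eq_of_le h.hs hle fun _ hp _ hq => graphZ_isotropic h.hs hz hS hp hq]
  exact hL

theorem sa_pproj {z : W} : SA β (pproj β z) := fun x y => by
  simp only [pproj_apply, map_sub, map_smul, LinearMap.sub_apply, LinearMap.smul_apply, smul_eq_mul, h.hs.symm x z]
  ring

theorem memS_add {z : W} (hz : β z z ≠ 0) {S : W →ₗ[F] W} (hS : MemS M z S) (s : F) :
    MemS M z (S + s • pproj β z) := by
  refine h.memS_of_le hz (fun x y => by simp [hS.1 x y, h.sa_pproj (z := z) x y]) (by simp [hS.2.1, pproj_self hz])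
    (hS.2.2.map (h.hM _ (trs_isTens (β := β) s))) ?_
  rintro _ ⟨p, hp, rfl⟩
  obtain ⟨h2, h1⟩ := mem_graphZ.1 hp
  refine mem_graphZ.2 ⟨h2, ?_⟩
  simp [tr_apply, h1, pproj_of_perp h2]

theorem memS_sq {z : W} (hz : β z z ≠ 0) {S : W →ₗ[F] W} (hS : MemS M z S) {a : F} (ha : a ≠ 0) :
    MemS M z ((a * a) • S) := by
  refine h.memS_of_le hz (fun x y => by simp [hS.1 x y]) (by simp [hS.2.1])
    (hS.2.2.map (h.hM _ (dil_isTens (β := β) ha))) ?_
  rintro _ ⟨p, hp, rfl⟩
  obtain ⟨h2, h1⟩ := mem_graphZ.1 hp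
  refine mem_graphZ.2 ⟨?_, ?_⟩
  · show β z (a⁻¹ • p.2) = 0
    simp [h2]
  · show pproj β z (a • p.1) = ((a * a) • S) (a⁻¹ • p.2)
    simp [h1, smul_smul, mul_assoc, ha]

theorem not_memS_zero {z : W} (hz : β z z ≠ 0) : ¬ MemS M z (0 : W →ₗ[F] W) := by
  intro hS
  haveI := h.hs.finite_dim
  have hz0 : z ≠ 0 := fun e => hz (by simp [e])
  have hm : Mem M ((linf F W).map h.hs.swp.1.toLinearMap) := mem_linfMem.map (h.hM _ h.hs.swp_isTens)
  have hrank := h.hs.finrank_perp hz0
  obtain ⟨b, hb⟩ : ∃ b : Fin 2 → LinearMap.ker (β z), LinearIndependent F b :=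
    ⟨_, (Module.finBasisOfFinrankEq F _ hrank).linearIndependent⟩
  have hpair : ∀ u ∈ LinearMap.ker (β z), ((0, u) : W × W) ∈ graphZ β z (0 : W →ₗ[F] W) ∧
      ((0, u) : W × W) ∈ (linf F W).map h.hs.swp.1.toLinearMap := fun u hu => by
    refine ⟨by simpa using hS.pair_mem (LinearMap.mem_ker.1 hu), (-u, 0), rfl, ?_⟩
    show h.hs.swp.1 (-u, 0) = _
    simp [Setting.swp_apply]
  have hind : LinearIndependent F ![((0, (b 0 : W)) : W × W), (0, (b 1 : W))] := linearIndependent_two fun s t hst => by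
    refine LinearIndependent.pair_iff.1 (show LinearIndependent F ![b 0, b 1] by convert hb using 1; ext i; fin_cases i <;> rfl)
      s t (Subtype.ext ?_)
    simpa using congrArg Prod.snd hst
  have e := h.two_eq hS.2.2 hm hind (hpair _ (b 0).2).1 (hpair _ (b 0).2).2 (hpair _ (b 1).2).1 (hpair _ (b 1).2).2
  obtain ⟨q, hq, eq'⟩ := e ▸ hS.z_mem hz
  have := congrArg Prod.fst eq'
  change q.2 = z at this
  exact hz0 (this ▸ mem_linf.1 hq)

theorem memS_eq {z : W} (hz : β z z ≠ 0) {S S' : W →ₗ[F] W} (hS : MemS M z S) (hS' : MemS M z S') {e : W}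
    (he0 : e ≠ 0) (he : β z e = 0) (heq : S e = S' e) : S = S' := by
  have hz0 : z ≠ 0 := fun e' => hz (by simp [e'])
  have hind : LinearIndependent F ![((z, 0) : W × W), (S e, e)] := linearIndependent_two fun s t hst => by
    have ht : t = 0 := by
      have := congrArg Prod.snd hst
      simpa [he0] using this
    refine ⟨?_, ht⟩
    have := congrArg Prod.fst hst
    simpa [ht, hz0] using this
  have hg := h.two_eq hS.2.2 hS'.2.2 hind (hS.z_mem hz) (hS'.z_mem hz) (hS.pair_mem he) (heq ▸ hS'.pair_mem he)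
  refine LinearMap.ext fun u => ?_
  have hdec : u = (β z u * (β z z)⁻¹) • z + pproj β z u := by rw [pproj_apply]; abel
  have hy := perp_pproj hz u
  have := (mem_graphZ.1 (hg ▸ hS.pair_mem hy)).2
  rw [pproj_of_perp (hS.perp_range _)] at this
  rw [hdec, map_add, map_add, map_smul, map_smul, hS.2.1, hS'.2.1, this]

/-- No member meets the first one in a point. -/
theorem one {L : Submodule F (W × W)} (hL : Mem M L) (hne : L ≠ linf F W) {z : W} (hz0 : z ≠ 0)
    (hzL : ((z, 0) : W × W) ∈ L) : False := by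
  have hs := h.hs
  haveI := hs.finite_dim
  have hline : ∀ w : W, ((w, 0) : W × W) ∈ L → ∃ c : F, w = c • z := fun w hw => by
    by_contra hc
    push Not at hc
    refine hne (h.two hL (linearIndependent_two fun s t hst => ?_) hzL hw)
    have ht : t = 0 := by
      by_contra ht
      refine hc (-t⁻¹ * s) ?_
      have := congrArg (t⁻¹ • ·) hst
      simp [smul_smul, ht] at this
      rw [eq_neg_of_add_eq_zero_right this]; simp
    exact ⟨by simpa [ht, hz0] using hst, ht⟩
  have hperp : ∀ p ∈ L, β z p.2 = 0 := fun p hp => by simpa [form_apply] using hL.isotropic hzL hp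
  -- the projection
  set φ : L →ₗ[F] W := (LinearMap.snd F W W) ∘ₗ L.subtype with hφ
  have hkerφ : finrank F (LinearMap.ker φ) ≤ 1 := by
    refine finrank_le_one (⟨⟨(z, 0), hzL⟩, rfl⟩ : LinearMap.ker φ) fun p => ?_
    have hp2 : (p.1 : W × W).2 = 0 := p.2
    obtain ⟨c, hc⟩ := hline (p.1 : W × W).1 (by convert p.1.2 using 1; exact Prod.ext rfl hp2.symm)
    exact ⟨c, Subtype.ext (Subtype.ext (Prod.ext (by simp [hc]) (by simp [hp2])))⟩
  have hrange : LinearMap.range φ = LinearMap.ker (β z) := by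
    refine Submodule.eq_of_le_of_finrank_le ?_ ?_
    · rintro _ ⟨p, rfl⟩
      exact hperp _ p.2
    · have := φ.finrank_range_add_finrank_ker
      rw [hL.finrank_eq hs] at this
      rw [hs.finrank_perp hz0]
      omega
  have hsurj : ∀ y, β z y = 0 → ∃ x, ((x, y) : W × W) ∈ L := fun y hy => by
    obtain ⟨p, hp⟩ : y ∈ LinearMap.range φ := hrange ▸ LinearMap.mem_ker.2 hy
    exact ⟨(p : W × W).1, by convert p.2 using 1; exact Prod.ext rfl hp.symm⟩
  by_cases hzz : β z z = 0
  · obtain ⟨x, hx⟩ := hsurj z hzz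
    have hm := h.hM _ (trs_isTens (β := β) (1 : F))
    refine hne (h.rigid hL fun p hp => ?_)
    have hind : LinearIndependent F ![((z, 0) : W × W), (x + z, z)] := linearIndependent_two fun s t hst => by
      have ht : t = 0 := by simpa [hz0] using congrArg Prod.snd hst
      exact ⟨by simpa [ht, hz0] using congrArg Prod.fst hst, ht⟩
    have e := h.two_eq (hL.map hm) hL hind ⟨(z, 0), hzL, by simp [tr_apply]⟩ hzL ⟨(x, z), hx, by simp [tr_apply]⟩
      (by simpa using L.add_mem hx hzL)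
    rw [← e]
    exact ⟨p, hp, by simp [tr_apply]⟩
  -- the map of the plane
  set ψ : L →ₗ[F] W := φ + (((β z z)⁻¹ • β z) ∘ₗ LinearMap.fst F W W ∘ₗ L.subtype).smulRight z with hψ
  have hψa : ∀ p : L, ψ p = (p : W × W).2 + (β z (p : W × W).1 * (β z z)⁻¹) • z := fun p => by
    simp [hψ, hφ, mul_comm]
  have hψinj : Function.Injective ψ := (injective_iff_map_eq_zero ψ).2 fun p hp => by
    rw [hψa] at hp
    have h1 := congrArg (β z) hp
    simp [hperp _ p.2, mul_assoc, hzz] at h1
    rw [h1, zero_mul, zero_smul, add_zero] at hp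
    obtain ⟨c, hc⟩ := hline (p : W × W).1 (by convert p.2 using 1; exact Prod.ext rfl hp.symm)
    rw [hc, map_smul, smul_eq_mul, mul_eq_zero] at h1
    exact Subtype.ext (Prod.ext (by simp [hc, h1.resolve_right hzz]) (by simp [hp]))
  set e := ψ.linearEquivOfInjective hψinj (by rw [hL.finrank_eq hs, hs.dim])
  have he : ∀ p, e p = ψ p := fun _ => rfl
  set S : W →ₗ[F] W := pproj β z ∘ₗ LinearMap.fst F W W ∘ₗ L.subtype ∘ₗ e.symm.toLinearMap with hS'
  have hSL : ∀ p : L, pproj β z (p : W × W).1 = S ((p : W × W).2) := fun p => by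
    have hep : e.symm (ψ p) = p := by rw [← he]; exact e.symm_apply_apply p
    have hez : e.symm z = ⟨(z, 0), hzL⟩ := by
      rw [LinearEquiv.symm_apply_eq, he, hψa]; simp [hzz]
    have : S (ψ p) = pproj β z (p : W × W).1 := by simp [hS', hep]
    rw [← this, hψa, map_add, map_smul, show S z = 0 by simp [hS', hez, pproj_self hzz], smul_zero, add_zero]
  have hSz : S z = 0 := by
    have hez : e.symm z = ⟨(z, 0), hzL⟩ := by
      rw [LinearEquiv.symm_apply_eq, he, hψa]; simp [hzz]
    simp [hS', hez, pproj_self hzz]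
  have hSA : SA β S := fun u v => by
    obtain ⟨xu, hxu⟩ := hsurj _ (perp_pproj hzz u)
    obtain ⟨xv, hxv⟩ := hsurj _ (perp_pproj hzz v)
    have key : ∀ w x, ((x, pproj β z w) : W × W) ∈ L → S w = pproj β z x := fun w x hx => by
      rw [show w = (β z w * (β z z)⁻¹) • z + pproj β z w by rw [pproj_apply]; abel, map_add, map_smul, hSz, smul_zero,
        zero_add]
      exact (hSL ⟨_, hx⟩).symm
    have hB : β (pproj β z u) xv = β xu (pproj β z v) := by
      have := hL.isotropic hxu hxv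
      rw [form_apply] at this
      simp at this
      linear_combination -this
    rw [key u xu hxu, key v xv hxv, h.sa_pproj, ← hB, h.sa_pproj]
  have hmemS : MemS M z S := h.memS_of_le hzz hSA hSz hL fun p hp =>
    mem_graphZ.2 ⟨hperp p hp, hSL ⟨p, hp⟩⟩
  -- the elements with the axis of this member
  obtain ⟨g, hg, hgL⟩ := hmemS.2.2
  have hηG : ∀ p, β z (eta g p).2 = 0 ∧ pproj β z (eta g p).1 = S (eta g p).2 := fun p =>
    mem_graphZ.1 (eta_mem hgL p)
  have hηz : eta g (z, 0) = 0 := eta_vanish hgL (hmemS.z_mem hzz)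
  set B : W →ₗ[F] W := LinearMap.snd F W W ∘ₗ eta g ∘ₗ LinearMap.inl F W W ∘ₗ pproj β z with hBdef
  have hdec : ∀ u : W, u = (β z u * (β z z)⁻¹) • z + pproj β z u := fun u => by rw [pproj_apply]; abel
  have hηx : ∀ x : W, (eta g (x, 0)).2 = B x ∧ pproj β z (eta g (x, 0)).1 = S (B x) := fun x => by
    have e : eta g (x, 0) = eta g (pproj β z x, 0) := by
      conv_lhs => rw [show ((x, 0) : W × W) = (β z x * (β z z)⁻¹) • ((z, 0) : W × W) + (pproj β z x, 0) by
        simp [← hdec x]]
      rw [map_add, map_smul, hηz, smul_zero, zero_add]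
    refine ⟨by rw [e]; rfl, ?_⟩
    rw [e]
    exact (hηG _).2
  have hBperp : ∀ u, β z (B u) = 0 := fun u => (hηG _).1
  have hBz : B z = 0 := by simp [hBdef, pproj_self hzz, Prod.mk_zero_zero]
  have hBSA : SA β B := fun x y => by
    have := eta_form hs g (pproj β z x, 0) (pproj β z y, 0)
    simp [form_apply] at this
    have key : ∀ a b, β (B a) b = β ((eta g (pproj β z a, 0)).2) (pproj β z b) := fun a b => by
      rw [show B a = (eta g (pproj β z a, 0)).2 from rfl, ← h.sa_pproj, pproj_of_perp (hηG _).1]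
    rw [key, hs.symm x, key, this]
  have hBinj : ∀ x, β z x = 0 → B x = 0 → x = 0 := fun x hx hBx => by
    by_contra hx0
    have hm : Mem M ((linf F W).map (conjTr g 1).1.toLinearMap) :=
      mem_linfMem.map (mul_mem (mul_mem hg (h.hM _ (trs_isTens 1))) (inv_mem hg))
    obtain ⟨w, hw⟩ : ∃ w, eta g (x, 0) = (w, 0) := ⟨_, Prod.ext rfl ((hηx x).1.trans hBx)⟩
    have hw' : pproj β z w = 0 := by
      have := (hηx x).2
      rwa [hw, hBx, map_zero] at this
    have hY : (conjTr g 1).1 (x, 0) = (x + w, 0) := by rw [conjTr_apply, hw, one_smul]; simp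
    have hYz : (conjTr g 1).1 (z, 0) = (z, 0) := by rw [conjTr_apply, hηz]; simp
    have e := h.two hm (linearIndependent_two (p := z) (q := x + w) fun a b hab => ?_) ⟨(z, 0), rfl, hYz⟩
      ⟨(x, 0), rfl, hY⟩
    · have hL2 := h.rigid_conj hg hgL fun u => mem_linf.1 (show (conjTr g 1).1 (u, 0) ∈ linf F W by rw [← e]; exact ⟨(u, 0), rfl, rfl⟩)
      exact hx0 (mem_linf.1 (hL2 ▸ hmemS.pair_mem hx : ((S x, x) : W × W) ∈ linf F W))
    · have hb := congrArg (pproj β z) hab
      simp [pproj_self hzz, hw', pproj_of_perp hx, hx0] at hb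
      refine ⟨?_, hb⟩
      simpa [hb, hz0] using hab
  -- its inverse on the plane
  set E₁ : W →ₗ[F] W := B + (LinearMap.id - pproj β z) with hE₁
  have hE₁inj : Function.Injective E₁ := (injective_iff_map_eq_zero E₁).2 fun u hu => by
    have h1 := congrArg (pproj β z) hu
    simp [hE₁, pproj_of_perp (hBperp _), pproj_of_perp (perp_pproj hzz u)] at h1
    have h2 : u = pproj β z u := by simpa [hE₁, h1, sub_eq_zero] using hu
    exact hBinj u (h2 ▸ perp_pproj hzz u) h1
  set E₂ := LinearEquiv.ofInjectiveEndo E₁ hE₁inj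
  have hE₂ : ∀ u, E₂ u = B u + (u - pproj β z u) := fun u => by
    show E₁ u = _
    simp [hE₁]
  set Bi : W →ₗ[F] W := pproj β z ∘ₗ E₂.symm.toLinearMap with hBidef
  have hBiB : ∀ x, β z x = 0 → Bi (B x) = x := fun x hx => by
    have : E₂.symm (B x) = x := by rw [LinearEquiv.symm_apply_eq, hE₂, pproj_of_perp hx, sub_self, add_zero]
    simp [hBidef, this, pproj_of_perp hx]
  have hBiz : Bi z = 0 := by
    have : E₂.symm z = z := by rw [LinearEquiv.symm_apply_eq, hE₂, hBz, pproj_self hzz]; simp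
    simp [hBidef, this, pproj_self hzz]
  have hBperpBi : ∀ u, β z (Bi u) = 0 := fun u => perp_pproj hzz _
  have hBBi : ∀ y, β z y = 0 → B (Bi y) = y := fun y hy => by
    obtain ⟨u, rfl⟩ := E₂.surjective y
    rw [hE₂] at hy
    simp [hBperp, perp_pproj hzz] at hy
    show B (pproj β z (E₂.symm (E₂ u))) = E₂ u
    rw [E₂.symm_apply_apply, pproj_of_perp hy, hE₂, pproj_of_perp hy, sub_self, add_zero]
  have hBiπ : ∀ u, Bi (pproj β z u) = Bi u := fun u => by
    conv_rhs => rw [hdec u, map_add, map_smul, hBiz, smul_zero, zero_add]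
  have hBiSA : SA β Bi := fun u v => by
    have h1 : β (Bi u) v = β (Bi (pproj β z u)) (pproj β z v) := by
      rw [hBiπ, ← h.sa_pproj, pproj_of_perp (hBperpBi u)]
    have h2 : β u (Bi v) = β (pproj β z u) (Bi (pproj β z v)) := by
      rw [hBiπ, h.sa_pproj, pproj_of_perp (hBperpBi v)]
    rw [h1, h2]
    conv_lhs => rw [← hBBi _ (perp_pproj hzz v), ← hBSA, hBBi _ (perp_pproj hzz u)]
  have hmemk : ∀ r : F, r ≠ 0 → MemS M z (S + r⁻¹ • Bi) := fun r hr => by
    refine h.memS_of_le hzz (fun u v => by simp [hSA u v, hBiSA u v]) (by simp [hSz, hBiz])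
      (mem_linfMem.map (mul_mem (mul_mem hg (h.hM _ (trs_isTens r))) (inv_mem hg) : conjTr g r ∈ M)) ?_
    rintro _ ⟨⟨x, y⟩, hxy, rfl⟩
    obtain rfl : y = 0 := mem_linf.1 hxy
    show (conjTr g r).1 (x, 0) ∈ _
    rw [conjTr_apply, mem_graphZ]
    obtain ⟨e1, e2⟩ := hηx x
    constructor
    · simp [e1, hBperp]
    · have hBx : B (pproj β z x) = B x := by simp [hBdef, pproj_of_perp (perp_pproj hzz x)]
      simp [e1, e2, hr, smul_smul, ← hBx, hBiB _ (perp_pproj hzz x), add_comm]
  obtain ⟨-, a₀, ha₀, ha₁⟩ := exists_scalars (F := F) h.h5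
  have hrank := hs.finrank_perp hz0
  obtain ⟨v, hvP, hv0⟩ := Submodule.exists_mem_ne_zero_of_ne_bot
    (fun e => by rw [e, finrank_bot] at hrank; omega : LinearMap.ker (β z) ≠ ⊥)
  have hv : β z v = 0 := hvP
  by_cases hsc : ∃ b : F, B = b • pproj β z
  · obtain ⟨b, hb⟩ := hsc
    have hb0 : b ≠ 0 := fun e => hv0 (hBinj v hv (by simp [hb, e]))
    have hcj : ∀ r, conjTr g r ∈ M := fun r => mul_mem (mul_mem hg (h.hM _ (trs_isTens r))) (inv_mem hg)
    set T := conjTr g (-(a₀ * b)⁻¹) * tr (β := β) (sa_smul_id (a₀ - 1)) * conjTr g b⁻¹ with hT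
    have hTM : T ∈ M := mul_mem (mul_mem (hcj _) (h.hM _ (trs_isTens _))) (hcj _)
    have hTz : T.1 (z, 0) = (z, 0) := by
      simp [hT, Subgroup.coe_mul, LinearEquiv.mul_apply, conjTr_apply, tr_apply, hηz]
    have hTx : ∀ x, β z x = 0 → T.1 (x, 0) = (a₀ • x, 0) := fun x hx => by
      obtain ⟨w, hw⟩ : ∃ w, eta g (x, 0) = (w, b • x) :=
        ⟨_, Prod.ext rfl (by rw [(hηx x).1, hb, LinearMap.smul_apply, pproj_of_perp hx])⟩
      have hη2 : eta g (a₀ • x + b⁻¹ • w, x) = a₀ • (w, b • x) := by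
        rw [show ((a₀ • x + b⁻¹ • w, x) : W × W) = a₀ • ((x, 0) : W × W) + b⁻¹ • (w, b • x) by
          simp [smul_smul, hb0], map_add, map_smul, map_smul, ← hw, eta_vanish hgL (eta_mem hgL _)]
        simp
      have step : (tr (β := β) (sa_smul_id (a₀ - 1))).1 ((conjTr g b⁻¹).1 (x, 0)) = (a₀ • x + b⁻¹ • w, x) := by
        rw [conjTr_apply, hw, tr_apply]
        refine Prod.ext ?_ ?_
        · simp [smul_smul, hb0, sub_smul]; abel
        · simp [smul_smul, hb0]
      rw [hT, Subgroup.coe_mul, LinearEquiv.mul_apply, Subgroup.coe_mul, LinearEquiv.mul_apply, step, conjTr_apply,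
        hη2]
      refine Prod.ext ?_ ?_
      · simp [smul_smul, mul_comm, ha₀, mul_assoc]
      · simp [smul_smul]
        rw [show b⁻¹ * a₀⁻¹ * (a₀ * b) = 1 by field_simp, one_smul, add_neg_cancel]
    obtain ⟨k, e', D, hk, hD, hTD⟩ := h.stab hTM fun u => by
      rw [show ((u, 0) : W × W) = (β z u * (β z z)⁻¹) • ((z, 0) : W × W) + (pproj β z u, 0) by simp [← hdec u],
        map_add, map_smul, hTz, hTx _ (perp_pproj hzz u)]
      simp
    have hform : ∀ u w, β ((T.1 (u, 0)).1) ((T.1 (w, 0)).1) = k * β u w := fun u w => by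
      rw [hTD, hTD, tmap_apply, tmap_apply]
      simp only [smul_zero, add_zero, map_smul, LinearMap.smul_apply, smul_eq_mul]
      rw [← hD u w]
    have h1 := hform z z
    rw [hTz] at h1
    have hk1 : k = 1 := (mul_eq_right₀ hzz).1 h1.symm
    obtain ⟨p₁, hp₁, p₂, hp₂, hpp⟩ : ∃ p₁, β z p₁ = 0 ∧ ∃ p₂, β z p₂ = 0 ∧ β p₁ p₂ ≠ 0 := by
      refine ⟨v, hv, ?_⟩
      by_contra hc
      push Not at hc
      refine hv0 (hs.nondeg v fun y => ?_)
      rw [hdec y, map_add, map_smul, hc _ (perp_pproj hzz y), hs.symm v z, hv, smul_zero, add_zero]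
    have h2 := hform p₁ p₂
    rw [hTx p₁ hp₁, hTx p₂ hp₂, hk1] at h2
    simp only [map_smul, LinearMap.smul_apply, smul_eq_mul] at h2
    exact ha₁ (mul_right_cancel₀ hpp (by linear_combination h2))
  -- a singular combination
  set P := LinearMap.ker (β z)
  let Ψ : F × F × F →ₗ[F] W :=
    (LinearMap.fst F F (F × F)).smulRight (S v) +
      ((LinearMap.fst F F F) ∘ₗ LinearMap.snd F F (F × F)).smulRight (Bi v) +
      ((LinearMap.snd F F F) ∘ₗ LinearMap.snd F F (F × F)).smulRight v
  have hΨP : ∀ q, Ψ q ∈ P := fun q => by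
    show β z (Ψ q) = 0
    simp [Ψ, hmemS.perp_range, hBperpBi, hv]
  obtain ⟨⟨a, b, c⟩, hker, hne0⟩ := Submodule.exists_mem_ne_zero_of_ne_bot
    (LinearMap.ker_ne_bot_of_finrank_lt (f := Ψ.codRestrict P hΨP) (by
      rw [hrank, finrank_prod, finrank_prod, finrank_self]; norm_num))
  have hker' : a • S v + b • Bi v + c • v = 0 := by
    have := congrArg Subtype.val (LinearMap.mem_ker.1 hker)
    simpa [Ψ] using this
  have hmem2 : ∀ k s : F, MemS M z (S + k • Bi + s • pproj β z) := fun k s => by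
    rcases eq_or_ne k 0 with rfl | hk
    · rw [zero_smul, add_zero]; exact h.memS_add hzz hmemS s
    · have := hmemk k⁻¹ (inv_ne_zero hk)
      rw [inv_inv] at this
      exact h.memS_add hzz this s
  have hπv : pproj β z v = v := pproj_of_perp hv
  by_cases ha : a = 0
  · subst ha
    rw [zero_smul, zero_add] at hker'
    have e := h.memS_eq hzz (hmem2 b c) hmemS hv0 hv (by
      simp only [LinearMap.add_apply, LinearMap.smul_apply, hπv, add_assoc, hker', add_zero])
    rw [add_assoc, add_eq_left] at e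
    by_cases hb : b = 0
    · subst hb
      rw [zero_smul, zero_add] at hker'
      have hc : c = 0 := (smul_eq_zero.1 hker').resolve_right hv0
      exact hne0 (by simp [hc])
    · refine hsc ⟨-b / c, LinearMap.ext fun u => ?_⟩
      have hBiy : ∀ y, Bi y = (-c / b) • pproj β z y := fun y => by
        have := congrArg (b⁻¹ • ·) (LinearMap.congr_fun e y)
        simp [smul_smul, hb] at this
        rw [eq_neg_of_add_eq_zero_left this, neg_div, neg_smul, div_eq_inv_mul]
      have h3 := hBiy (B u)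
      rw [pproj_of_perp (hBperp u)] at h3
      have hBu : Bi (B u) = pproj β z u := by
        rw [← hBiB _ (perp_pproj hzz u)]
        congr 1
        simp [hBdef, pproj_of_perp (perp_pproj hzz u)]
      rw [hBu] at h3
      have hc : c ≠ 0 := by
        rintro rfl
        exact hv0 (by rw [← hBBi v hv, hBiy]; simp)
      simp [h3, smul_smul]
      rw [show -b / c * (-c / b) = 1 by field_simp, one_smul]
  · -- scale the coefficient of `S`
    have e2 : (2 : F) ≠ 0 := hs.two
    set a₁ := (a₀ + 1) * (2 : F)⁻¹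
    set a₂ := (a₀ - 1) * (2 : F)⁻¹
    have h₁ : a₁ ≠ 0 := mul_ne_zero (fun e => ha₁ (by rw [eq_neg_of_add_eq_zero_left e]; ring)) (inv_ne_zero e2)
    have h₂ : a₂ ≠ 0 := mul_ne_zero (fun e => ha₁ (by rw [sub_eq_zero.1 e]; ring)) (inv_ne_zero e2)
    have hA := h.memS_add hzz (h.memS_sq hzz (hmem2 (a₀ * b / a / (a₁ * a₁)) 0) h₁) (a₀ * c / a)
    have hB' := h.memS_sq hzz hmemS h₂
    have e := h.memS_eq hzz hA hB' hv0 hv (by
      have hcomb : (a₀ * a⁻¹) • (a • S v + b • Bi v + c • v) = 0 := by rw [hker', smul_zero]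
      rw [← sub_eq_zero, ← hcomb]
      simp only [LinearMap.add_apply, LinearMap.smul_apply, hπv, smul_add, smul_smul, zero_smul, add_zero]
      have : a₁ * a₁ - a₂ * a₂ = a₀ := by
        simp only [a₁, a₂]; field_simp; ring
      match_scalars <;> field_simp
      linear_combination this)
    refine h.not_memS_zero hzz ?_
    convert hmem2 (b / a) (c / a) using 1
    refine LinearMap.ext fun u => ?_
    have hu := congrArg (fun f : W →ₗ[F] W => (a₀⁻¹ : F) • f u) e
    simp only [LinearMap.add_apply, LinearMap.smul_apply, smul_add, smul_smul, zero_smul, add_zero, LinearMap.zero_apply]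
      at hu ⊢
    rw [← sub_eq_zero] at hu
    rw [← hu]
    have : a₁ * a₁ - a₂ * a₂ = a₀ := by
      simp only [a₁, a₂]; field_simp; ring
    match_scalars <;> field_simp
    linear_combination this

end Over

end CfsgLib.Classical.SpTensorSix
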