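import Cfsg.Agent.Lib.Classical.SpTensorSix.Setup

/-!
# A non-scalar element in the radical gives all transvections
-/

set_option autoImplicit false
set_option linter.unusedSectionVars false

namespace CfsgLib.Classical.SpTensorSix

open Module CfsgLib.Classical

variable {F W : Type*} [Field F] [AddCommGroup W] [Module F W] {β : W →ₗ[F] W →ₗ[F] F}
  {M : Subgroup (isomGroup (form β))}

/-- `M` has the element `(x, y) ↦ (x + S y, y)`. -/
def RadIn (M : Subgroup (isomGroup (form β))) (S : W →ₗ[F] W) : Prop :=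
  ∃ g ∈ M, ∀ p, g.1 p = (p.1 + S p.2, p.2)

/-- The symmetrised rank one map of two vectors. -/
def op (β : W →ₗ[F] W →ₗ[F] F) (a b : W) : W →ₗ[F] W := (β a).smulRight b + (β b).smulRight a

theorem op_apply (a b x : W) : op β a b x = β a x • b + β b x • a := by simp [op]

theorem op_comm (a b : W) : op β a b = op β b a := add_comm _ _

theorem op_add_right (a b b' : W) : op β a (b + b') = op β a b + op β a b' := by
  ext x; simp [op_apply, smul_add, add_smul]; abel

theorem op_smul_right (a b : W) (c : F) : op β a (c • b) = c • op β a b := by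
  ext x; simp [op_apply, smul_add, smul_smul, mul_comm]

theorem op_add_left (a a' b : W) : op β (a + a') b = op β a b + op β a' b := by
  rw [op_comm, op_add_right, op_comm b, op_comm b]

theorem op_smul_left (a b : W) (c : F) : op β (c • a) b = c • op β a b := by
  rw [op_comm, op_smul_right, op_comm b]

theorem RadIn.add {S S' : W →ₗ[F] W} (h : RadIn M S) (h' : RadIn M S') : RadIn M (S + S') := by
  obtain ⟨g, hg, e⟩ := h
  obtain ⟨g', hg', e'⟩ := h'
  exact ⟨g * g', mul_mem hg hg', fun p => by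
    rw [Subgroup.coe_mul, LinearEquiv.mul_apply, e', e, LinearMap.add_apply]
    exact Prod.ext (by simp only; abel) rfl⟩

theorem RadIn.zero : RadIn M (0 : W →ₗ[F] W) := ⟨1, one_mem M, fun p => by simp⟩

theorem RadIn.neg {S : W →ₗ[F] W} (h : RadIn M S) : RadIn M (-S) := by
  obtain ⟨g, hg, e⟩ := h
  refine ⟨g⁻¹, inv_mem hg, fun p => ?_⟩
  show g.1.symm p = _
  rw [LinearEquiv.symm_apply_eq, e]
  simp

theorem RadIn.conj {S : W →ₗ[F] W} (hM : Contains M) (h : RadIn M S) (C : W ≃ₗ[F] W)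
    (hC : ∀ x y, β (C x) (C y) = β x y) : RadIn M (C.conj S) := by
  obtain ⟨g, hg, e⟩ := h
  have hm := hM _ (rowE_isTens C hC)
  refine ⟨rowE C hC * g * (rowE C hC)⁻¹, mul_mem (mul_mem hm hg) (inv_mem hm), fun p => ?_⟩
  rw [Subgroup.coe_mul, LinearEquiv.mul_apply, Subgroup.coe_mul, LinearEquiv.mul_apply, rowE_inv_apply, e, rowE_apply]
  simp [LinearEquiv.conj_apply]

theorem RadIn.sq_smul {S : W →ₗ[F] W} (hM : Contains M) (h : RadIn M S) (a : F) : RadIn M ((a * a) • S) := by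
  by_cases ha : a = 0
  · rw [ha, zero_mul, zero_smul]; exact RadIn.zero
  obtain ⟨g, hg, e⟩ := h
  have hm := hM _ (dil_isTens (β := β) ha)
  refine ⟨dil β ha * g * (dil β ha)⁻¹, mul_mem (mul_mem hm hg) (inv_mem hm), fun p => ?_⟩
  rw [Subgroup.coe_mul, LinearEquiv.mul_apply, Subgroup.coe_mul, LinearEquiv.mul_apply]
  obtain ⟨q, rfl⟩ := (dil β ha).1.surjective p
  rw [show ((dil β ha)⁻¹ : isomGroup (form β)).1 ((dil β ha).1 q) = q from (dil β ha).1.symm_apply_apply q, e,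
    dil_apply, dil_apply]
  simp [smul_smul, ha, mul_assoc]

theorem RadIn.smul {S : W →ₗ[F] W} (h2 : (2 : F) ≠ 0) (hM : Contains M) (h : RadIn M S) (s : F) : RadIn M (s • S) := by
  have : s = (s + 1) * (2 : F)⁻¹ * ((s + 1) * (2 : F)⁻¹) + -((s - 1) * (2 : F)⁻¹ * ((s - 1) * (2 : F)⁻¹)) := by
    field_simp; ring
  rw [this, add_smul, neg_smul]
  exact (h.sq_smul hM _).add (h.sq_smul hM _).neg

/-- The radical part of `M`. -/
def radSub (hs : Setting β) (hM : Contains M) : Submodule F (W →ₗ[F] W) where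
  carrier := {S | RadIn M S}
  add_mem' := RadIn.add
  zero_mem' := RadIn.zero
  smul_mem' c _ h := h.smul hs.two hM c

theorem conj_op {C : W ≃ₗ[F] W} (hC : ∀ x y, β (C x) (C y) = β x y) (a b : W) :
    C.conj (op β a b) = op β (C a) (C b) := by
  ext x
  rw [LinearEquiv.conj_apply_apply, op_apply, op_apply, map_add, map_smul, map_smul]
  rw [← hC a, ← hC b, C.apply_symm_apply]

/-- Removing one weight. -/
theorem weight_filter {V' : Submodule F (W →ₗ[F] W)} {C : W ≃ₗ[F] W} (hinv : ∀ T ∈ V', C.conj T ∈ V') (lam : F)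
    {T : W →ₗ[F] W} (hT : T ∈ V') : C.conj T - lam • T ∈ V' := sub_mem (hinv T hT) (V'.smul_mem lam hT)

namespace Frame

variable {z₀ w z₂ : W} (fr : Frame β z₀ w z₂) (hs : Setting β)
include fr hs

/-- A self-adjoint map in terms of a frame. -/
theorem sa_expand {S : W →ₗ[F] W} (hS : SA β S) :
    S = (β (S z₂) z₂ * (2 : F)⁻¹) • op β z₀ z₀ + (β (S z₂) w * (β w w)⁻¹) • op β z₀ w +
      β (S z₂) z₀ • op β z₀ z₂ + (β (S w) w * (β w w * β w w * 2)⁻¹) • op β w w +
      (β (S w) z₀ * (β w w)⁻¹) • op β w z₂ + (β (S z₀) z₀ * (2 : F)⁻¹) • op β z₂ z₂ := by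
  have h2 := hs.two
  have hw := fr.hw
  have sw : ∀ x y, β x (S y) = β (S y) x := fun x y => hs.symm _ _
  have a1 : β (S z₀) w = β (S w) z₀ := by rw [hS, hs.symm]
  have a2 : β (S z₀) z₂ = β (S z₂) z₀ := by rw [hS, hs.symm]
  have a3 : β (S w) z₂ = β (S z₂) w := by rw [hS, hs.symm]
  refine fr.linearMap_ext ?_ ?_ ?_ <;> refine fr.ext_of hs ?_ ?_ ?_
  all_goals
    simp only [LinearMap.add_apply, LinearMap.smul_apply, op_apply, map_add, map_smul, smul_eq_mul, fr.h00, fr.h22,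
      fr.h02, fr.h01, fr.h21, fr.h20 hs, fr.h10 hs, fr.h12 hs, sw, a1, a2, a3]
  all_goals (field_simp; try ring)

/-- A self-adjoint map vanishing on the isotropic vectors is a scalar. -/
theorem scalar_of_iso {S : W →ₗ[F] W} (hS : SA β S) (h : ∀ z, β z z = 0 → β (S z) z = 0) {c₀ : F} (hc : c₀ ≠ 0)
    (hc1 : c₀ * c₀ ≠ 1) : S = β (S z₂) z₀ • LinearMap.id := by
  have h2 := hs.two
  set δ := β w w with hδ
  have hkey : ∀ c : F, 2 * c * β (S w) z₂ + c * c * (β (S w) w - δ * β (S z₂) z₀) - δ * (c * c * c) * β (S w) z₀ = 0 := by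
    intro c
    obtain ⟨C, hC, -, -, e2⟩ := fr.exists_unip hs c
    have hz := h (C z₂) (by rw [hC, fr.h22])
    rw [e2] at hz
    simp only [map_add, map_sub, map_smul, LinearMap.add_apply, LinearMap.sub_apply, LinearMap.smul_apply, smul_eq_mul,
      h z₀ fr.h00, h z₂ fr.h22, mul_zero, add_zero, zero_add, sub_zero] at hz
    have a1 : β (S z₂) w = β (S w) z₂ := by rw [hS, hs.symm]
    have a2 : β (S z₀) z₂ = β (S z₂) z₀ := by rw [hS, hs.symm]
    have a3 : β (S z₀) w = β (S w) z₀ := by rw [hS, hs.symm]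
    rw [a1, a2, a3, ← hδ] at hz
    linear_combination (norm := (field_simp; ring)) hz
  have e1 : ∀ c : F, c ≠ 0 → 2 * β (S w) z₂ - δ * (c * c) * β (S w) z₀ = 0 := fun c hc0 => by
    refine (mul_eq_zero.1 (show (2 * c) * (2 * β (S w) z₂ - δ * (c * c) * β (S w) z₀) = 0 by
      have p := hkey c
      have m := hkey (-c)
      linear_combination p - m)).resolve_left (mul_ne_zero h2 hc0)
  have e01 : β (S w) z₀ = 0 := by
    refine (mul_eq_zero.1 (show (δ * (c₀ * c₀ - 1)) * β (S w) z₀ = 0 by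
      linear_combination e1 1 one_ne_zero - e1 c₀ hc)).resolve_left (mul_ne_zero fr.hw (sub_ne_zero.2 hc1))
  have e12 : β (S w) z₂ = 0 := (mul_eq_zero.1 (show 2 * β (S w) z₂ = 0 by
    simpa [e01] using e1 1 one_ne_zero)).resolve_left h2
  have e11 : β (S w) w = δ * β (S z₂) z₀ := by
    have := hkey 1
    rw [e01, e12] at this
    linear_combination this
  have h02 : β (S z₀) z₂ = β (S z₂) z₀ := by rw [hS, hs.symm]
  have h10 : β (S z₀) w = 0 := by rw [hS, hs.symm, e01]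
  have h21 : β (S z₂) w = 0 := by rw [hS, hs.symm, e12]
  refine fr.linearMap_ext ?_ ?_ ?_ <;> refine fr.ext_of hs ?_ ?_ ?_
  all_goals
    rw [hs.symm]
    simp [h z₀ fr.h00, h z₂ fr.h22, e01, e12, e11, h02, h10, h21, fr.h00, fr.h22, fr.h02, fr.h01, fr.h21, fr.h20 hs,
      fr.h10 hs, fr.h12 hs, hδ, mul_comm]

/-- An invariant space with a map of non-zero value at an isotropic vector contains a rank one map. -/
theorem op_mem {V' : Submodule F (W →ₗ[F] W)}
    (hinv : ∀ C : W ≃ₗ[F] W, (∀ x y, β (C x) (C y) = β x y) → ∀ T ∈ V', C.conj T ∈ V') {S : W →ₗ[F] W} (hS : SA β S)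
    (hSV : S ∈ V') (hσ : β (S z₂) z₂ ≠ 0) {t : F} (ht : t ≠ 0) (ht2 : t * t ≠ 1) (ht3 : t * t * t ≠ 1) :
    op β z₀ z₀ ∈ V' := by
  have h2 := hs.two
  have hw := fr.hw
  set δ := β w w with hδ
  obtain ⟨T, hT, T0, T1, T2⟩ := fr.exists_torus hs ht
  obtain ⟨N, hN, N0, N1, N2⟩ := fr.exists_unip hs 1
  have t00 : T.conj (op β z₀ z₀) = (t * t) • op β z₀ z₀ := by
    rw [conj_op hT, T0, op_smul_left, op_smul_right, smul_smul]
  have t01 : T.conj (op β z₀ w) = t • op β z₀ w := by rw [conj_op hT, T0, T1, op_smul_left]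
  have t02 : T.conj (op β z₀ z₂) = (1 : F) • op β z₀ z₂ := by
    rw [conj_op hT, T0, T2, op_smul_left, op_smul_right, smul_smul, mul_inv_cancel₀ ht]
  have t11 : T.conj (op β w w) = (1 : F) • op β w w := by rw [conj_op hT, T1, one_smul]
  have t12 : T.conj (op β w z₂) = t⁻¹ • op β w z₂ := by rw [conj_op hT, T1, T2, op_smul_right]
  have t22 : T.conj (op β z₂ z₂) = (t⁻¹ * t⁻¹) • op β z₂ z₂ := by
    rw [conj_op hT, T2, op_smul_left, op_smul_right, smul_smul]
  set c := (t * t - t) * (t * t - 1) * (t * t - t⁻¹) with hc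
  have htm1 : t - 1 ≠ 0 := fun e => ht2 (by rw [sub_eq_zero.1 e, one_mul])
  have htm : t - t⁻¹ ≠ 0 := fun e => ht2 (by
    rw [sub_eq_zero] at e; nth_rw 2 [e]; exact mul_inv_cancel₀ ht)
  have hc0 : c ≠ 0 := by
    refine mul_ne_zero (mul_ne_zero ?_ (sub_ne_zero.2 ht2)) ?_
    · rw [show t * t - t = t * (t - 1) by ring]; exact mul_ne_zero ht htm1
    · intro e
      exact ht3 (by rw [sub_eq_zero.1 e, inv_mul_cancel₀ ht])
  set c' := (t⁻¹ * t⁻¹ - t) * (t⁻¹ * t⁻¹ - 1) * (t⁻¹ * t⁻¹ - t⁻¹)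
  set k00 := β (S z₂) z₂ * (2 : F)⁻¹
  set k22 := β (S z₀) z₀ * (2 : F)⁻¹
  have hk00 : k00 ≠ 0 := mul_ne_zero hσ (inv_ne_zero h2)
  -- the extreme weights
  have hR : (k00 * c) • op β z₀ z₀ + (k22 * c') • op β z₂ z₂ ∈ V' := by
    have e := weight_filter (hinv T hT) t⁻¹ (weight_filter (hinv T hT) 1 (weight_filter (hinv T hT) t hSV))
    convert e using 1
    rw [fr.sa_expand hs hS]
    simp only [map_add, map_sub, map_smul, t00, t01, t02, t11, t12, t22]
    module
  rcases eq_or_ne (k22 * c') 0 with h22 | h22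
  · rw [h22, zero_smul, add_zero] at hR
    exact (Submodule.smul_mem_iff _ (mul_ne_zero hk00 hc0)).1 hR
  -- lower the lowest weight
  set f := -(δ * (2 : F)⁻¹) with hf
  have hN2 : N z₂ = z₂ + w + f • z₀ := by
    rw [N2, one_smul, hf, neg_smul, ← sub_eq_add_neg]; congr 2; ring
  have n00 : N.conj (op β z₀ z₀) = op β z₀ z₀ := by rw [conj_op hN, N0]
  have n01 : N.conj (op β z₀ w) = op β z₀ w + (-δ) • op β z₀ z₀ := by
    rw [conj_op hN, N0, N1, one_mul, ← hδ, sub_eq_add_neg, ← neg_smul, op_add_right, op_smul_right]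
  have n22 : N.conj (op β z₂ z₂) = op β z₂ z₂ + (2 : F) • op β w z₂ + (2 * f) • op β z₀ z₂ + op β w w +
      (2 * f) • op β z₀ w + (f * f) • op β z₀ z₀ := by
    rw [conj_op hN, hN2]
    simp only [op_add_left, op_add_right, op_smul_left, op_smul_right, op_comm z₂ w, op_comm w z₀, op_comm z₂ z₀]
    module
  have hD : (2 : F) • op β w z₂ + (2 * f) • op β z₀ z₂ + op β w w + (2 * f) • op β z₀ w + (f * f) • op β z₀ z₀ ∈ V' := by
    refine (Submodule.smul_mem_iff _ h22).1 ?_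
    convert sub_mem (hinv N hN _ hR) hR using 1
    simp only [map_add, map_smul, n00, n22]
    module
  have hE : ((t - 1) * (t - t⁻¹) * (2 * f)) • op β z₀ w + ((t * t - 1) * (t * t - t⁻¹) * (f * f)) • op β z₀ z₀ ∈ V' := by
    convert weight_filter (hinv T hT) t⁻¹ (weight_filter (hinv T hT) 1 hD) using 1
    simp only [map_add, map_sub, map_smul, t00, t01, t02, t11, t12, one_smul]
    module
  have hne : (t - 1) * (t - t⁻¹) * (2 * f) * (-δ) ≠ 0 :=
    mul_ne_zero (mul_ne_zero (mul_ne_zero htm1 htm) (mul_ne_zero h2 (neg_ne_zero.2 (mul_ne_zero hw (inv_ne_zero h2)))))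
      (neg_ne_zero.2 hw)
  refine (Submodule.smul_mem_iff _ hne).1 ?_
  convert sub_mem (hinv N hN _ hE) hE using 1
  simp only [map_add, map_smul, n00, n01]
  module

end Frame

end CfsgLib.Classical.SpTensorSix
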