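import Cfsg.Agent.Lib.Classical.SympBasic
import Cfsg.Agent.Lib.Orth.Classify

/-!
# The symplectic space `U ⊗ W` of a plane and a three-dimensional orthogonal space

The space is `W × W`: the pair `(x, y)` stands for `u ⊗ x + v ⊗ y`.
-/

set_option autoImplicit false
set_option linter.unusedSectionVars false

namespace CfsgLib.Classical.SpTensorSix

open Module CfsgLib.Classical

variable {F W : Type*} [Field F] [AddCommGroup W] [Module F W]

/-- The product of the alternating form of the plane and `β`. -/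
def form (β : W →ₗ[F] W →ₗ[F] F) : (W × W) →ₗ[F] (W × W) →ₗ[F] F :=
  β.compl₁₂ (LinearMap.fst F W W) (LinearMap.snd F W W) - β.compl₁₂ (LinearMap.snd F W W) (LinearMap.fst F W W)

variable {β : W →ₗ[F] W →ₗ[F] F}

theorem form_apply (p q : W × W) : form β p q = β p.1 q.2 - β p.2 q.1 := by
  simp [form]

/-- A symmetric non-degenerate form in dimension three over a field of odd characteristic. -/
structure Setting (β : W →ₗ[F] W →ₗ[F] F) : Prop where
  symm : ∀ x y, β x y = β y x
  nondeg : ∀ x, (∀ y, β x y = 0) → x = 0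
  dim : finrank F W = 3
  two : (2 : F) ≠ 0

/-- A self-adjoint map. -/
def SA (β : W →ₗ[F] W →ₗ[F] F) (S : W →ₗ[F] W) : Prop := ∀ x y, β (S x) y = β x (S y)

namespace Setting

variable (hs : Setting β)
include hs

theorem alt : (form β).IsAlt := fun p => by rw [form_apply, hs.symm p.2, sub_self]

theorem finite_dim : FiniteDimensional F W := Module.finite_of_finrank_pos (by rw [hs.dim]; norm_num)

theorem eq_of_forall {x y : W} (h : ∀ z, β x z = β y z) : x = y := by
  rw [← sub_eq_zero]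
  exact hs.nondeg _ fun z => by rw [map_sub, LinearMap.sub_apply, h z, sub_self]

theorem form_nondeg : (form β).Nondegenerate := by
  have key : (form β).SeparatingLeft := fun p hp => by
    refine Prod.ext (hs.nondeg _ fun y => ?_) (hs.nondeg _ fun y => ?_)
    · simpa [form_apply] using hp (0, y)
    · simpa [form_apply] using hp (y, 0)
  exact ⟨key, fun p hp => key p fun q => by rw [alt_swap hs.alt, hp q, neg_zero]⟩

end Setting

/-- The tensor map of a matrix and `D`. -/
def tmap (a b c d : F) (D : W →ₗ[F] W) : (W × W) →ₗ[F] (W × W) :=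
  LinearMap.prod (D ∘ₗ (a • LinearMap.fst F W W + b • LinearMap.snd F W W))
    (D ∘ₗ (c • LinearMap.fst F W W + d • LinearMap.snd F W W))

theorem tmap_apply (a b c d : F) (D : W →ₗ[F] W) (p : W × W) :
    tmap a b c d D p = (D (a • p.1 + b • p.2), D (c • p.1 + d • p.2)) := rfl

/-- An isometry that is a tensor map. -/
def IsTens (g : isomGroup (form β)) : Prop := ∃ (a b c d : F) (D : W →ₗ[F] W), ∀ p, g.1 p = tmap a b c d D p

theorem IsTens.one : IsTens (1 : isomGroup (form β)) :=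
  ⟨1, 0, 0, 1, LinearMap.id, fun p => by simp [tmap_apply]⟩

theorem IsTens.mul {g h : isomGroup (form β)} (hg : IsTens g) (hh : IsTens h) : IsTens (g * h) := by
  obtain ⟨a, b, c, d, D, e⟩ := hg
  obtain ⟨a', b', c', d', D', e'⟩ := hh
  refine ⟨a * a' + b * c', a * b' + b * d', c * a' + d * c', c * b' + d * d', D ∘ₗ D', fun p => ?_⟩
  rw [Subgroup.coe_mul, LinearEquiv.mul_apply, e', e, tmap_apply, tmap_apply, tmap_apply]
  simp only [LinearMap.comp_apply, map_add, map_smul, smul_add, smul_smul, add_smul]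
  exact Prod.ext (by abel) (by abel)

theorem IsTens.inv [Finite F] (hs : Setting β) {g : isomGroup (form β)} (hg : IsTens g) : IsTens g⁻¹ := by
  haveI := hs.finite_dim
  haveI : Finite W := Module.finite_of_finite F
  haveI : Finite ((W × W) ≃ₗ[F] (W × W)) := Finite.of_injective (fun e => (e : W × W → W × W)) DFunLike.coe_injective
  have hpow : ∀ n : ℕ, IsTens (g ^ n) := fun n => by
    induction n with
    | zero => rw [pow_zero]; exact IsTens.one
    | succ n ih => rw [pow_succ]; exact ih.mul hg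
  have : g⁻¹ = g ^ (orderOf g - 1) := by
    refine inv_eq_of_mul_eq_one_right ?_
    rw [← pow_succ', Nat.sub_add_cancel (orderOf_pos g), pow_orderOf_eq_one]
  rw [this]
  exact hpow _

/-- `M` contains all tensor isometries. -/
def Contains (M : Subgroup (isomGroup (form β))) : Prop := ∀ g, IsTens g → g ∈ M

namespace Setting

variable (hs : Setting β)
include hs

/-- The element `(x, y) ↦ (y, -x)`. -/
def swp : isomGroup (form β) :=
  ⟨{ toFun := fun p => (p.2, -p.1)
     map_add' := fun p q => by simp [Prod.ext_iff]; abel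
     map_smul' := fun c p => by simp
     invFun := fun p => (-p.2, p.1)
     left_inv := fun p => by simp
     right_inv := fun p => by simp },
    fun p q => by
      simp only [LinearEquiv.coe_mk, LinearMap.coe_mk, AddHom.coe_mk, form_apply, map_neg, LinearMap.neg_apply]
      rw [hs.symm p.2 q.1, hs.symm q.1 p.2]
      ring⟩

theorem swp_apply (p : W × W) : hs.swp.1 p = (p.2, -p.1) := rfl

theorem swp_isTens : IsTens hs.swp :=
  ⟨0, 1, -1, 0, LinearMap.id, fun p => by simp [swp_apply, tmap_apply]⟩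

end Setting

/-- The element `(x, y) ↦ (a x, a⁻¹ y)`. -/
def dil (β : W →ₗ[F] W →ₗ[F] F) {a : F} (ha : a ≠ 0) : isomGroup (form β) :=
  ⟨{ toFun := fun p => (a • p.1, a⁻¹ • p.2)
     map_add' := fun p q => by simp
     map_smul' := fun c p => by simp [smul_comm c]
     invFun := fun p => (a⁻¹ • p.1, a • p.2)
     left_inv := fun p => by simp [smul_smul, ha]
     right_inv := fun p => by simp [smul_smul, ha] },
    fun p q => by
      simp only [LinearEquiv.coe_mk, LinearMap.coe_mk, AddHom.coe_mk, form_apply, map_smul, LinearMap.smul_apply,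
        smul_eq_mul]
      field_simp⟩

theorem dil_apply {a : F} (ha : a ≠ 0) (p : W × W) : (dil β ha).1 p = (a • p.1, a⁻¹ • p.2) := rfl

theorem dil_isTens {a : F} (ha : a ≠ 0) : IsTens (dil β ha) :=
  ⟨a, 0, 0, a⁻¹, LinearMap.id, fun p => by simp [dil_apply, tmap_apply]⟩

/-- An isometry of `W` acting on both coordinates. -/
def rowE (C : W ≃ₗ[F] W) (hC : ∀ x y, β (C x) (C y) = β x y) : isomGroup (form β) :=
  ⟨C.prodCongr C, fun p q => by simp [form_apply, hC]⟩

theorem rowE_apply (C : W ≃ₗ[F] W) (hC : ∀ x y, β (C x) (C y) = β x y) (p : W × W) :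
    (rowE C hC).1 p = (C p.1, C p.2) := rfl

theorem rowE_inv_apply (C : W ≃ₗ[F] W) (hC : ∀ x y, β (C x) (C y) = β x y) (p : W × W) :
    (rowE C hC)⁻¹.1 p = (C.symm p.1, C.symm p.2) := rfl

theorem rowE_isTens (C : W ≃ₗ[F] W) (hC : ∀ x y, β (C x) (C y) = β x y) : IsTens (rowE C hC) :=
  ⟨1, 0, 0, 1, C.toLinearMap, fun p => by simp [rowE_apply, tmap_apply]⟩

/-- The element `(x, y) ↦ (x + S y, y)`. -/
def tr {S : W →ₗ[F] W} (hS : SA β S) : isomGroup (form β) :=
  ⟨{ toFun := fun p => (p.1 + S p.2, p.2)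
     map_add' := fun p q => by simp [Prod.ext_iff]; abel
     map_smul' := fun c p => by simp
     invFun := fun p => (p.1 - S p.2, p.2)
     left_inv := fun p => by simp
     right_inv := fun p => by simp },
    fun p q => by
      simp only [LinearEquiv.coe_mk, LinearMap.coe_mk, AddHom.coe_mk, form_apply, map_add, LinearMap.add_apply]
      rw [hS p.2 q.2]
      ring⟩

theorem tr_apply {S : W →ₗ[F] W} (hS : SA β S) (p : W × W) : (tr hS).1 p = (p.1 + S p.2, p.2) := rfl

theorem sa_smul_id (s : F) : SA β (s • LinearMap.id) := fun x y => by simp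

theorem trs_isTens (s : F) : IsTens (tr (β := β) (sa_smul_id s)) :=
  ⟨1, s, 0, 1, LinearMap.id, fun p => by simp [tr_apply, tmap_apply]⟩

/-- A hyperbolic frame of `W`. -/
structure Frame (β : W →ₗ[F] W →ₗ[F] F) (z₀ w z₂ : W) : Prop where
  h00 : β z₀ z₀ = 0
  h22 : β z₂ z₂ = 0
  h02 : β z₀ z₂ = 1
  h01 : β z₀ w = 0
  h21 : β z₂ w = 0
  hw : β w w ≠ 0
  expand : ∀ x, x = β z₂ x • z₀ + (β w x * (β w w)⁻¹) • w + β z₀ x • z₂

namespace Frame

variable {z₀ w z₂ : W} (fr : Frame β z₀ w z₂)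
include fr

theorem ne0 : z₀ ≠ 0 := fun e => by simpa [e] using fr.h02

theorem ne2 : z₂ ≠ 0 := fun e => by simpa [e] using fr.h02

theorem h20 (hs : Setting β) : β z₂ z₀ = 1 := by rw [hs.symm, fr.h02]

theorem h10 (hs : Setting β) : β w z₀ = 0 := by rw [hs.symm, fr.h01]

theorem h12 (hs : Setting β) : β w z₂ = 0 := by rw [hs.symm, fr.h21]

theorem swap (hs : Setting β) : Frame β z₂ w z₀ where
  h00 := fr.h22
  h22 := fr.h00
  h02 := fr.h20 hs
  h01 := fr.h21
  h21 := fr.h01
  hw := fr.hw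
  expand x := by
    conv_lhs => rw [fr.expand x]
    abel

theorem ext_of (hs : Setting β) {x y : W} (h0 : β z₀ x = β z₀ y) (h1 : β w x = β w y) (h2 : β z₂ x = β z₂ y) :
    x = y := by
  rw [fr.expand x, fr.expand y, h0, h1, h2]

theorem linearMap_ext {U : Type*} [AddCommGroup U] [Module F U] {f g : W →ₗ[F] U} (h0 : f z₀ = g z₀)
    (h1 : f w = g w) (h2 : f z₂ = g z₂) : f = g := by
  refine LinearMap.ext fun x => ?_
  rw [fr.expand x]
  simp only [map_add, map_smul, h0, h1, h2]

/-- Two symmetric bilinear maps agreeing on a frame are equal. -/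
theorem form_ext {σ τ : W →ₗ[F] W →ₗ[F] F} (hσ : ∀ x y, σ x y = σ y x) (hτ : ∀ x y, τ x y = τ y x)
    (e00 : σ z₀ z₀ = τ z₀ z₀) (e01 : σ z₀ w = τ z₀ w) (e02 : σ z₀ z₂ = τ z₀ z₂) (e11 : σ w w = τ w w)
    (e12 : σ w z₂ = τ w z₂) (e22 : σ z₂ z₂ = τ z₂ z₂) : σ = τ := by
  refine fr.linearMap_ext ?_ ?_ ?_ <;> refine fr.linearMap_ext ?_ ?_ ?_
  · exact e00
  · exact e01
  · exact e02
  · rw [hσ, hτ, e01]
  · exact e11
  · exact e12
  · rw [hσ, hτ, e02]
  · rw [hσ, hτ, e12]
  · exact e22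

/-- The linear map with given values on a frame. -/
def lift (z₀ w z₂ : W) (β : W →ₗ[F] W →ₗ[F] F) (X₀ X₁ X₂ : W) : W →ₗ[F] W :=
  (β z₂).smulRight X₀ + ((β w w)⁻¹ • β w).smulRight X₁ + (β z₀).smulRight X₂

omit fr in
theorem lift_apply (X₀ X₁ X₂ x : W) :
    lift z₀ w z₂ β X₀ X₁ X₂ x = β z₂ x • X₀ + (β w x * (β w w)⁻¹) • X₁ + β z₀ x • X₂ := by
  simp [lift, mul_comm]

theorem lift_fst (hs : Setting β) (X₀ X₁ X₂ : W) : lift z₀ w z₂ β X₀ X₁ X₂ z₀ = X₀ := by
  simp [lift_apply, fr.h20 hs, fr.h10 hs, fr.h00]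

theorem lift_mid (hs : Setting β) (X₀ X₁ X₂ : W) : lift z₀ w z₂ β X₀ X₁ X₂ w = X₁ := by
  simp [lift_apply, fr.h21, fr.h01, fr.hw]

theorem lift_snd (hs : Setting β) (X₀ X₁ X₂ : W) : lift z₀ w z₂ β X₀ X₁ X₂ z₂ = X₂ := by
  simp [lift_apply, fr.h22, fr.h12 hs, fr.h02]

/-- An isometry with given values on a frame. -/
theorem exists_isometry (hs : Setting β) {X₀ X₁ X₂ : W} (e00 : β X₀ X₀ = 0) (e22 : β X₂ X₂ = 0)
    (e02 : β X₀ X₂ = 1) (e01 : β X₀ X₁ = 0) (e12 : β X₁ X₂ = 0) (e11 : β X₁ X₁ = β w w) :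
    ∃ C : W ≃ₗ[F] W, (∀ x y, β (C x) (C y) = β x y) ∧ C z₀ = X₀ ∧ C w = X₁ ∧ C z₂ = X₂ := by
  haveI := hs.finite_dim
  set L := lift z₀ w z₂ β X₀ X₁ X₂
  have hL : ∀ x y, β (L x) (L y) = β x y := by
    have key : β.compl₁₂ L L = β := by
      refine fr.form_ext (fun x y => ?_) hs.symm ?_ ?_ ?_ ?_ ?_ ?_
      · simp [hs.symm (L x)]
      all_goals simp only [LinearMap.compl₁₂_apply, L, fr.lift_fst hs, fr.lift_mid hs, fr.lift_snd hs]
      · rw [e00, fr.h00]
      · rw [e01, fr.h01]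
      · rw [e02, fr.h02]
      · rw [e11]
      · rw [e12, fr.h12 hs]
      · rw [e22, fr.h22]
    intro x y
    conv_rhs => rw [← key]
    rfl
  have hinj : Function.Injective L := fun x y e => hs.eq_of_forall fun z => by rw [← hL x z, e, hL]
  exact ⟨LinearEquiv.ofInjectiveEndo L hinj, hL, fr.lift_fst hs .., fr.lift_mid hs .., fr.lift_snd hs ..⟩

/-- The unipotent isometry fixing the first vector of a frame. -/
theorem exists_unip (hs : Setting β) (c : F) : ∃ C : W ≃ₗ[F] W, (∀ x y, β (C x) (C y) = β x y) ∧ C z₀ = z₀ ∧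
    C w = w - (c * β w w) • z₀ ∧ C z₂ = z₂ + c • w - (c * c * β w w * (2 : F)⁻¹) • z₀ := by
  have h2 := hs.two
  refine fr.exists_isometry hs fr.h00 ?_ ?_ ?_ ?_ ?_
  all_goals
    simp only [map_add, map_sub, map_smul, LinearMap.add_apply, LinearMap.sub_apply, LinearMap.smul_apply,
      smul_eq_mul, fr.h00, fr.h22, fr.h02, fr.h01, fr.h21, fr.h20 hs, fr.h10 hs, fr.h12 hs]
  all_goals field_simp
  all_goals ring

/-- The torus isometry of a frame. -/
theorem exists_torus (hs : Setting β) {t : F} (ht : t ≠ 0) : ∃ C : W ≃ₗ[F] W, (∀ x y, β (C x) (C y) = β x y) ∧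
    C z₀ = t • z₀ ∧ C w = w ∧ C z₂ = t⁻¹ • z₂ := by
  refine fr.exists_isometry hs ?_ ?_ ?_ ?_ ?_ rfl
  all_goals simp [fr.h00, fr.h22, fr.h02, fr.h01, fr.h12 hs, ht]

end Frame

namespace Setting

variable (hs : Setting β)
include hs

theorem exists_isotropic [Fintype F] : ∃ z : W, z ≠ 0 ∧ β z z = 0 := by
  haveI := hs.finite_dim
  set Q := LinearMap.BilinMap.toQuadraticMap β with hQdef
  have hpol : ∀ x y, QuadraticMap.polarBilin Q x y = 2 * β x y := fun x y => by
    rw [QuadraticMap.polarBilin_apply_apply, LinearMap.BilinMap.polar_toQuadraticMap, hs.symm y x]; ring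
  have hN : (QuadraticMap.polarBilin Q).Nondegenerate := by
    refine ⟨fun x hx => hs.nondeg x fun y => ?_, fun x hx => hs.nondeg x fun y => ?_⟩
    · have := hx y; rw [hpol] at this; exact (mul_eq_zero.1 this).resolve_left hs.two
    · have := hx y; rw [hpol, hs.symm] at this; exact (mul_eq_zero.1 this).resolve_left hs.two
  obtain ⟨v, hv, e⟩ := CfsgLib.Orth.exists_singular (Q := Q) hN (by rw [hs.dim])
  exact ⟨v, hv, e⟩

theorem exists_frame {z : W} (hz : z ≠ 0) (h : β z z = 0) : ∃ w z₂, Frame β z w z₂ := by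
  haveI := hs.finite_dim
  obtain ⟨v, hv⟩ : ∃ v, β z v = 1 := by
    obtain ⟨v, hv⟩ : ∃ v, β z v ≠ 0 := by
      by_contra hc; push Not at hc; exact hz (hs.nondeg z hc)
    exact ⟨(β z v)⁻¹ • v, by simp [hv]⟩
  have h2 := hs.two
  set z₂ := v - (β v v * (2 : F)⁻¹) • z with hz₂
  have e02 : β z z₂ = 1 := by simp [hz₂, h, hv]
  have e22 : β z₂ z₂ = 0 := by
    simp only [hz₂, map_sub, map_smul, LinearMap.sub_apply, LinearMap.smul_apply, smul_eq_mul, h, hv, hs.symm v z]
    field_simp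
    ring
  set T : W →ₗ[F] F × F := (β z).prod (β z₂)
  obtain ⟨w, hw, hw0⟩ : ∃ w, T w = 0 ∧ w ≠ 0 := by
    have := LinearMap.ker_ne_bot_of_finrank_lt (f := T) (by rw [finrank_prod, finrank_self, hs.dim]; norm_num)
    obtain ⟨w, hw, hw0⟩ := Submodule.exists_mem_ne_zero_of_ne_bot this
    exact ⟨w, hw, hw0⟩
  have e01 : β z w = 0 := congrArg Prod.fst hw
  have e21 : β z₂ w = 0 := congrArg Prod.snd hw
  have hind : LinearIndependent F ![z, z₂, w] := by
    rw [Fintype.linearIndependent_iff]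
    intro g hg
    simp only [Fin.sum_univ_three, Matrix.cons_val_zero, Matrix.cons_val_one, Matrix.cons_val_two, Matrix.tail_cons,
      Matrix.head_cons] at hg
    have e0 := congrArg (β z) hg
    have e1 := congrArg (β z₂) hg
    simp only [map_add, map_smul, smul_eq_mul, map_zero, h, e02, e01, e22, e21, hs.symm z₂ z, mul_one, mul_zero,
      add_zero, zero_add] at e0 e1
    rw [e0, e1, zero_smul, zero_smul, zero_add, zero_add, smul_eq_zero] at hg
    intro i
    fin_cases i
    · exact e1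
    · exact e0
    · exact hg.resolve_right hw0
  have hspan : Submodule.span F (Set.range ![z, z₂, w]) = ⊤ :=
    hind.span_eq_top_of_card_eq_finrank (by rw [Fintype.card_fin, hs.dim])
  have hexp : ∀ x : W, ∃ a b c : F, x = a • z + b • z₂ + c • w := fun x => by
    obtain ⟨g, hg⟩ := (Submodule.mem_span_range_iff_exists_fun F).1 (hspan ▸ Submodule.mem_top (x := x))
    exact ⟨g 0, g 1, g 2, by rw [← hg]; simp [Fin.sum_univ_three]⟩
  have hww : β w w ≠ 0 := fun e => hw0 (hs.nondeg w fun y => by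
    obtain ⟨a, b, c, rfl⟩ := hexp y
    simp [hs.symm w z, hs.symm w z₂, e01, e21, e])
  refine ⟨w, z₂, h, e22, e02, e01, e21, hww, fun x => ?_⟩
  obtain ⟨a, b, c, rfl⟩ := hexp x
  simp only [map_add, map_smul, smul_eq_mul, h, e22, e02, e01, e21, hs.symm z₂ z, hs.symm w z, hs.symm w z₂, mul_one,
    mul_zero, add_zero, zero_add]
  rw [mul_assoc, mul_inv_cancel₀ hww, mul_one]
  abel

end Setting

end CfsgLib.Classical.SpTensorSix
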