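import Cfsg.Agent.Lib.Classical.SpTensorSix.Radical

/-!
# Transvections at pure isotropic points generate
-/

set_option autoImplicit false
set_option linter.unusedSectionVars false

namespace CfsgLib.Classical.SpTensorSix

open Module CfsgLib.Classical

variable {F W : Type*} [Field F] [AddCommGroup W] [Module F W] {β : W →ₗ[F] W →ₗ[F] F}
  {M : Subgroup (isomGroup (form β))}

/-- The field has elements avoiding small orders. -/
theorem exists_scalars [Fintype F] (h5 : 5 ≤ Fintype.card F) :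
    (∃ t : F, t ≠ 0 ∧ t * t ≠ 1 ∧ t * t * t ≠ 1) ∧ ∃ a : F, a ≠ 0 ∧ a * a ≠ 1 := by
  classical
  obtain ⟨u, hu⟩ := IsCyclic.exists_generator (α := Fˣ)
  have ho : orderOf u = Fintype.card F - 1 := by
    rw [orderOf_eq_card_of_forall_mem_zpowers hu, Nat.card_eq_fintype_card, Fintype.card_units]
  have hne : ∀ k, 0 < k → k < 4 → (u : F) ^ k ≠ 1 := fun k hk hk4 e => by
    have : u ^ k = 1 := Units.ext (by rw [Units.val_pow_eq_pow_val, e, Units.val_one])
    have := Nat.le_of_dvd hk (orderOf_dvd_of_pow_eq_one this)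
    omega
  have h2 := hne 2 (by norm_num) (by norm_num)
  have h3 := hne 3 (by norm_num) (by norm_num)
  rw [pow_two] at h2
  rw [pow_succ, pow_two] at h3
  exact ⟨⟨u, u.ne_zero, h2, h3⟩, u, u.ne_zero, h2⟩

/-- A vector whose full transvection group lies in `M`. -/
def Ax (hs : Setting β) (M : Subgroup (isomGroup (form β))) (v : W × W) : Prop := ∀ c : F, tv hs.alt v c ∈ M

variable {hs : Setting β}

theorem Ax.map {v : W × W} (h : Ax hs M v) {g : isomGroup (form β)} (hg : g ∈ M) : Ax hs M (g.1 v) := fun c => by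
  rw [← conj_tv hs.alt g v c]
  exact mul_mem (mul_mem hg (h c)) (inv_mem hg)

theorem Ax.smul {v : W × W} (h : Ax hs M v) (a : F) : Ax hs M (a • v) := fun c => by
  rw [tv_smul]; exact h _

theorem Ax.line {v v' : W × W} (h : Ax hs M v) (h' : Ax hs M v') (hB : form β v v' ≠ 0) (s : F) :
    Ax hs M (v + s • v') := by
  have := h.map (h' (s * (form β v v')⁻¹))
  rwa [tv_apply, mul_assoc, inv_mul_cancel₀ hB, mul_one] at this

theorem Ax.of_op {z : W} (hM : Contains M) (h : RadIn M (op β z z)) : Ax hs M (z, 0) := fun c => by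
  obtain ⟨g, hg, e⟩ := h.smul hs.two hM (-c * (2 : F)⁻¹)
  convert hg using 1
  refine Subtype.ext (LinearEquiv.ext fun p => ?_)
  rw [tv_apply, e, LinearMap.smul_apply, op_apply, form_apply]
  refine Prod.ext ?_ (by simp)
  simp only [Prod.fst_add, Prod.smul_fst, map_zero, zero_sub, hs.symm p.2 z]
  rw [← add_smul, smul_smul]
  congr 2
  rw [show -c * (2 : F)⁻¹ * (β z p.2 + β z p.2) = -c * ((2 : F)⁻¹ * 2) * β z p.2 by ring, inv_mul_cancel₀ hs.two]
  ring

namespace Setting

variable (hs)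
include hs

/-- Isotropic orthogonal vectors are dependent. -/
theorem isotropic_dep [Fintype F] {x y : W} (hx0 : x ≠ 0) (hx : β x x = 0) (hy : β y y = 0) (hxy : β x y = 0) :
    ∃ k : F, y = k • x := by
  obtain ⟨w, z₂, fr⟩ := hs.exists_frame hx0 hx
  have e := fr.expand y
  rw [hxy, zero_smul, add_zero] at e
  set k := β z₂ y
  set b := β w y * (β w w)⁻¹
  rw [e] at hy
  simp [fr.h00, fr.h01, fr.h10 hs, fr.hw] at hy
  exact ⟨k, by rw [e, hy, zero_smul, add_zero]⟩

/-- The reflection in a difference maps one vector to the other. -/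
theorem exists_reflection {x y : W} (hd : β (x - y) (x - y) ≠ 0) (e : β x x = β y y) :
    ∃ C : W ≃ₗ[F] W, (∀ u v, β (C u) (C v) = β u v) ∧ C x = y := by
  suffices key : ∀ v : W, β v v ≠ 0 → ∃ C : W ≃ₗ[F] W, (∀ a b, β (C a) (C b) = β a b) ∧
      ∀ a, C a = a - (2 * β v a * (β v v)⁻¹) • v by
    obtain ⟨C, hC, hCa⟩ := key _ hd
    refine ⟨C, hC, ?_⟩
    rw [hCa, show 2 * β (x - y) x = β (x - y) (x - y) by simp [hs.symm y x, ← e]; ring, mul_inv_cancel₀ hd, one_smul]
    simp
  intro v hv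
  let r : W →ₗ[F] W := LinearMap.id - (((2 : F) * (β v v)⁻¹) • β v).smulRight v
  have hr : ∀ a, r a = a - (2 * β v a * (β v v)⁻¹) • v := fun a => by
    simp [r, mul_assoc, mul_comm (β v v)⁻¹]
  have hrr : ∀ a, r (r a) = a := fun a => by
    rw [hr (r a), hr a, map_sub, map_smul, smul_eq_mul]
    rw [show 2 * (β v a - 2 * β v a * (β v v)⁻¹ * β v v) * (β v v)⁻¹ = -(2 * β v a * (β v v)⁻¹) by field_simp; ring]
    rw [neg_smul, sub_neg_eq_add, sub_add_cancel]
  refine ⟨{ r with invFun := r, left_inv := hrr, right_inv := hrr }, fun a b => ?_, hr⟩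
  show β (r a) (r b) = β a b
  simp only [hr, map_sub, map_smul, LinearMap.sub_apply, LinearMap.smul_apply, smul_eq_mul, hs.symm a v]
  field_simp
  ring

/-- Vectors of equal non-zero norm are conjugate. -/
theorem exists_isometry_map {x y : W} (hx : β x x ≠ 0) (e : β x x = β y y) :
    ∃ C : W ≃ₗ[F] W, (∀ u v, β (C u) (C v) = β u v) ∧ C x = y := by
  by_cases hd : β (x - y) (x - y) = 0
  · have hs' : β (x - -y) (x - -y) ≠ 0 := by
      intro h
      apply hx
      simp only [map_sub, map_neg, LinearMap.sub_apply, LinearMap.neg_apply, hs.symm y x, ← e] at hd h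
      have : (2 * 2) * β x x = 0 := by linear_combination hd + h
      exact (mul_eq_zero.1 this).resolve_left (mul_ne_zero hs.two hs.two)
    obtain ⟨C, hC, hCx⟩ := hs.exists_reflection hs' (by simp [e])
    exact ⟨C.trans (LinearEquiv.neg F), fun a b => by simp [hC], by simp [hCx]⟩
  · exact hs.exists_reflection hd e

end Setting

/-- One pure isotropic axis gives everything. -/
theorem top_of_axis [Fintype F] (h5 : 5 ≤ Fintype.card F) (hs : Setting β) (hM : Contains M) {z₀ : W} (hz : z₀ ≠ 0)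
    (hz0 : β z₀ z₀ = 0) (h : Ax hs M (z₀, 0)) : M = ⊤ := by
  haveI := hs.finite_dim
  obtain ⟨w, z₂, fr⟩ := hs.exists_frame hz hz0
  have hiso : ∀ z, β z z = 0 → Ax hs M (z, 0) := fun z he => by
    by_cases hp : β z₀ z = 0
    · obtain ⟨k, rfl⟩ := hs.isotropic_dep hz hz0 he hp
      simpa using h.smul k
    · obtain ⟨C, hC, hCz⟩ := hs.exists_reflection (x := z₀) (y := z) (by
        simp [hz0, he, hs.symm z z₀]
        exact fun e => hp ((mul_eq_zero.1 (show 2 * β z₀ z = 0 by linear_combination -e)).resolve_left hs.two)) (by rw [hz0, he])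
      simpa [rowE_apply, hCz] using h.map (hM _ (rowE_isTens C hC))
  -- the pair of a frame
  have hX : ∀ z, β z z = 0 → Ax hs M (0, z) := fun z he => by
    simpa [Setting.swp_apply] using ((hiso z he).map (hM _ hs.swp_isTens)).smul (-1)
  have hX1 : Ax hs M (z₀, z₂) := by
    simpa using (hiso z₀ fr.h00).line (hX z₂ fr.h22) (by simp [form_apply, fr.h02]) 1
  set δ := β w w with hδ
  have hnorm : ∀ c lam : F, lam ≠ 0 → lam ≠ 1 → ∃ v, β v v = lam * (c * c) * δ ∧ Ax hs M (v, 0) := by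
    intro c lam hl hl1
    obtain ⟨C, hC, -, -, e2⟩ := (fr.swap hs).exists_unip hs c
    obtain ⟨C', hC', e0, -, -⟩ := (fr.swap hs).exists_unip hs c
    set z := z₀ + c • w - (c * c * δ * (2 : F)⁻¹) • z₂ with hz'
    have hzz : β z z = 0 := by rw [← (show C z₀ = z from e2), hC, fr.h00]
    have hzz2 : β z z₂ = 1 := by
      simp [hz', fr.h02, fr.h12 hs, fr.h22]
    have hX2 : Ax hs M (z, lam • z₂) := by
      simpa using (hiso z hzz).line (hX z₂ fr.h22) (by simp [form_apply, hzz2]) lam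
    have hB : form β (z, lam • z₂) (z₀, z₂) ≠ 0 := by
      simp [form_apply, hzz2, fr.h20 hs, sub_eq_zero]
      exact fun e => hl1 e.symm
    refine ⟨z + (-lam) • z₀, ?_, by simpa using hX2.line hX1 hB (-lam)⟩
    have hz0z : β z z₀ = -(c * c * δ * (2 : F)⁻¹) := by
      simp [hz', fr.h00, fr.h10 hs, fr.h20 hs]
    simp only [map_add, map_smul, LinearMap.add_apply, LinearMap.smul_apply, smul_eq_mul, hzz, fr.h00, hz0z,
      hs.symm z₀ z]
    field_simp [hs.two]
    ring
  obtain ⟨-, c₀, hc₀, hc₁⟩ := exists_scalars (F := F) h5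
  have hall : ∀ n, Ax hs M (n, 0) := fun n => by
    by_cases hn : β n n = 0
    · exact hiso n hn
    obtain ⟨c, hc, hcl⟩ : ∃ c : F, c ≠ 0 ∧ c * c * δ ≠ β n n := by
      by_cases h1 : δ = β n n
      · refine ⟨c₀, hc₀, fun e => hc₁ ?_⟩
        rw [← h1] at e
        exact mul_right_cancel₀ fr.hw (by rw [one_mul]; exact e)
      · exact ⟨1, one_ne_zero, by rwa [one_mul, one_mul]⟩
    have hcd : c * c * δ ≠ 0 := mul_ne_zero (mul_ne_zero hc hc) fr.hw
    obtain ⟨v, hv, hvA⟩ := hnorm c (β n n * (c * c * δ)⁻¹) (mul_ne_zero hn (inv_ne_zero hcd)) (fun e => hcl (by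
      rw [mul_inv_eq_one₀ hcd] at e; exact e.symm))
    have hvv : β v v = β n n := by rw [hv, mul_assoc, mul_assoc, inv_mul_cancel₀ hcd, mul_one]
    obtain ⟨C, hC, hCv⟩ := hs.exists_isometry_map (hvv ▸ hn) hvv
    simpa [rowE_apply, hCv] using hvA.map (hM _ (rowE_isTens C hC))
  have hall' : ∀ n, Ax hs M (0, n) := fun n => by
    simpa [Setting.swp_apply] using ((hall n).map (hM _ hs.swp_isTens)).smul (-1)
  have hgood : ∀ x y, β x y ≠ 0 → Ax hs M (x, y) := fun x y hb => by
    simpa using (hall x).line (hall' y) (by simpa [form_apply] using hb) 1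
  have hevery : ∀ x y, Ax hs M (x, y) := fun x y => by
    by_cases hb : β x y = 0
    · by_cases hy : β y y = 0
      · by_cases hx : β x x = 0
        · rcases eq_or_ne x 0 with rfl | hx0
          · exact hall' y
          obtain ⟨k, rfl⟩ := hs.isotropic_dep hx0 hx hy hb
          have ht := hM _ (trs_isTens (β := β) (-k))
          have := ((hall x).map (hM _ hs.swp_isTens)).map ht |>.map (hM _ hs.swp_isTens) |>.smul (-1)
          simpa [Setting.swp_apply, tr_apply] using this
        · have h1 := hgood (y + x) (-x) (by simp [hs.symm y x, hb, hx])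
          have := ((h1.map (hM _ hs.swp_isTens)).smul (-1)).map (hM _ (trs_isTens (β := β) 1))
          have h2 := hgood x (y + x) (by simp [hb, hx])
          have t := h2.map (hM _ hs.swp_isTens) |>.map (hM _ (trs_isTens (β := β) 1)) |>.map (hM _ hs.swp_isTens) |>.smul (-1)
          simpa [Setting.swp_apply, tr_apply] using t
      · have t := (hgood (x + y) y (by simp [hb, hy])).map (hM _ (trs_isTens (β := β) (-1)))
        simpa [tr_apply] using t
    · exact hgood x y hb
  rw [eq_top_iff, ← tvGroup_eq_top hs.alt hs.form_nondeg]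
  refine (Subgroup.closure_le M).2 ?_
  rintro _ ⟨v, c, rfl⟩
  exact hevery v.1 v.2 c

/-- A non-scalar element in the radical gives everything. -/
theorem scalar_of_radIn [Fintype F] (h5 : 5 ≤ Fintype.card F) (hs : Setting β) (hM : Contains M) (hne : M ≠ ⊤)
    {S : W →ₗ[F] W} (hS : SA β S) (h : RadIn M S) : ∃ s : F, S = s • LinearMap.id := by
  by_contra hc
  push Not at hc
  obtain ⟨z, hz, hz0⟩ := hs.exists_isotropic
  obtain ⟨w, z₂, fr⟩ := hs.exists_frame hz hz0
  obtain ⟨⟨t, ht, ht2, ht3⟩, c₀, hc₀, hc₁⟩ := exists_scalars (F := F) h5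
  obtain ⟨x, hx, hσ⟩ : ∃ x, β x x = 0 ∧ β (S x) x ≠ 0 := by
    by_contra hcon
    push Not at hcon
    exact hc _ (fr.scalar_of_iso hs hS hcon hc₀ hc₁)
  obtain ⟨w', z', fr'⟩ := hs.exists_frame (fun e => hσ (by simp [e])) hx
  have := (fr'.swap hs).op_mem hs (V' := radSub hs hM) (fun C hC T hT => RadIn.conj hM hT C hC) hS h hσ ht ht2 ht3
  exact hne (top_of_axis h5 hs hM fr'.ne2 fr'.h22 (Ax.of_op hM this))

/-- An element fixing the first Lagrangian is a tensor map. -/
theorem stab_form [Fintype F] (h5 : 5 ≤ Fintype.card F) (hs : Setting β) (hM : Contains M) (hne : M ≠ ⊤)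
    {g : isomGroup (form β)} (hg : g ∈ M) (hfix : ∀ x, (g.1 (x, 0)).2 = 0) : ∃ (k e : F) (D : W →ₗ[F] W),
      k ≠ 0 ∧ (∀ x y, k * β (D x) (D y) = β x y) ∧ ∀ p, g.1 p = tmap k e 0 1 D p := by
  haveI := hs.finite_dim
  let A : W →ₗ[F] W := (LinearMap.fst F W W) ∘ₗ g.1.toLinearMap ∘ₗ LinearMap.inl F W W
  let E : W →ₗ[F] W := (LinearMap.fst F W W) ∘ₗ g.1.toLinearMap ∘ₗ LinearMap.inr F W W
  let D : W →ₗ[F] W := (LinearMap.snd F W W) ∘ₗ g.1.toLinearMap ∘ₗ LinearMap.inr F W W
  have hgp : ∀ p, g.1 p = (A p.1 + E p.2, D p.2) := fun p => by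
    have : p = (p.1, 0) + (0, p.2) := by simp
    conv_lhs => rw [this, map_add]
    refine Prod.ext ?_ ?_
    · rfl
    · show (g.1 (p.1, 0)).2 + _ = _
      rw [hfix, zero_add]; rfl
  have hAD : ∀ x y, β (A x) (D y) = β x y := fun x y => by
    have := g.2 (x, 0) (0, y)
    simpa [hgp, form_apply] using this
  have hDinj : Function.Injective D := (injective_iff_map_eq_zero D).2 fun y hy => hs.nondeg y fun x => by
    rw [hs.symm, ← hAD, hy, map_zero]
  set De := LinearEquiv.ofInjectiveEndo D hDinj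
  have hDe : ∀ y, De y = D y := fun _ => rfl
  have hsy : ∀ x y, β (A (De.symm x)) y = β (De.symm x) (De.symm y) := fun x y => by
    conv_lhs => rw [← De.apply_symm_apply y, hDe, hAD]
  have hrad : RadIn M (A ∘ₗ De.symm.toLinearMap) := by
    have h1 := hM _ (trs_isTens (β := β) (1 : F))
    refine ⟨g * tr (β := β) (sa_smul_id 1) * g⁻¹, mul_mem (mul_mem hg h1) (inv_mem hg), fun p => ?_⟩
    obtain ⟨q, rfl⟩ := g.1.surjective p
    rw [Subgroup.coe_mul, LinearEquiv.mul_apply, Subgroup.coe_mul, LinearEquiv.mul_apply,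
      show (g⁻¹).1 (g.1 q) = q from g.1.symm_apply_apply q, tr_apply, hgp, hgp]
    simp only [one_smul, LinearMap.id_apply, LinearMap.comp_apply, LinearEquiv.coe_coe, map_add]
    rw [← hDe q.2, De.symm_apply_apply]
    exact Prod.ext (by simp only; abel) rfl
  obtain ⟨k, hk⟩ := scalar_of_radIn h5 hs hM hne (fun x y => by
    simp only [LinearMap.comp_apply, LinearEquiv.coe_coe]
    rw [hsy, hs.symm x, hsy, hs.symm]) hrad
  have hA : ∀ x, A x = k • D x := fun x => by
    have := LinearMap.congr_fun hk (D x)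
    simpa [← hDe] using this
  have hk0 : k ≠ 0 := by
    rintro rfl
    obtain ⟨z, hz, -⟩ := hs.exists_isotropic
    exact hz (hs.nondeg z fun y => by rw [← hAD, hA, zero_smul, map_zero, LinearMap.zero_apply])
  have hD2 : ∀ x y, k * β (D x) (D y) = β x y := fun x y => by
    rw [← hAD x y, hA, map_smul, LinearMap.smul_apply, smul_eq_mul]
  -- the tensor part
  let h₀e : (W × W) ≃ₗ[F] (W × W) :=
    (De ≪≫ₗ LinearEquiv.smulOfUnit (Units.mk0 k hk0)).prodCongr De
  have hh : ∀ p, h₀e p = (k • D p.1, D p.2) := fun p => rfl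
  let h₀ : isomGroup (form β) := ⟨h₀e, fun p q => by
    simp only [hh, form_apply, map_smul, LinearMap.smul_apply, smul_eq_mul]
    linear_combination hD2 p.1 q.2 - hD2 p.2 q.1⟩
  have hh₀ : IsTens h₀ := ⟨k, 0, 0, 1, D, fun p => by
    show h₀e p = _
    simp [hh, tmap_apply]⟩
  let E' : W →ₗ[F] W := k⁻¹ • (De.symm.toLinearMap ∘ₗ E)
  have hgE : ∀ p, (h₀⁻¹ * g).1 p = (p.1 + E' p.2, p.2) := fun p => by
    rw [Subgroup.coe_mul, LinearEquiv.mul_apply]
    show h₀e.symm (g.1 p) = _
    rw [LinearEquiv.symm_apply_eq, hh, hgp]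
    simp [E', hA, ← hDe, smul_smul, hk0]
  obtain ⟨e, he⟩ := scalar_of_radIn h5 hs hM hne (fun x y => by
    have := (h₀⁻¹ * g).2 (0, x) (0, y)
    rw [hgE, hgE] at this
    simp [form_apply, sub_eq_zero] at this
    exact this) ⟨_, mul_mem (inv_mem (hM _ hh₀)) hg, hgE⟩
  refine ⟨k, k * e, D, hk0, hD2, fun p => ?_⟩
  have hE : E p.2 = (k * e) • D p.2 := by
    have h1 : E' p.2 = e • p.2 := LinearMap.congr_fun he p.2
    simp only [E', LinearMap.smul_apply, LinearMap.comp_apply, LinearEquiv.coe_coe] at h1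
    have h2 := congrArg (fun z => k • De z) h1
    simpa [smul_smul, hk0, ← hDe] using h2
  rw [hgp, tmap_apply, hA, hE]
  simp

end CfsgLib.Classical.SpTensorSix
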