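import Cfsg.Agent.Lib.Classical.SpTensorSix.Meet

/-!
# No two members meet in a plane
-/

set_option autoImplicit false
set_option linter.unusedSectionVars false

namespace CfsgLib.Classical.SpTensorSix

open Module CfsgLib.Classical

variable {F W : Type*} [Field F] [AddCommGroup W] [Module F W] {β : W →ₗ[F] W →ₗ[F] F}
  {M : Subgroup (isomGroup (form β))}

theorem Setting.mem_line_of_perp (hs : Setting β) {y z : W} (hz : z ≠ 0) (h : ∀ p, β z p = 0 → β y p = 0) :
    ∃ c : F, y = c • z := by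
  obtain ⟨v, hv⟩ : ∃ v, β z v ≠ 0 := by
    by_contra hc; push Not at hc; exact hz (hs.nondeg z hc)
  refine ⟨β y v * (β z v)⁻¹, hs.eq_of_forall fun u => ?_⟩
  have := h (u - (β z u * (β z v)⁻¹) • v) (by simp [mul_assoc, hv])
  simp only [map_sub, map_smul, smul_eq_mul] at this
  rw [map_smul, LinearMap.smul_apply, smul_eq_mul]
  linear_combination this

theorem Setting.finrank_perp (hs : Setting β) {z : W} (hz : z ≠ 0) : finrank F (LinearMap.ker (β z)) = 2 := by
  haveI := hs.finite_dim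
  have hr : LinearMap.range (β z) = ⊤ := by
    rw [LinearMap.range_eq_top]
    refine LinearMap.surjective (fun e => hz (hs.nondeg z fun y => ?_))
    rw [e]; rfl
  have := (β z).finrank_range_add_finrank_ker
  rw [hr, finrank_top, finrank_self, hs.dim] at this
  omega

theorem linearIndependent_two {U : Type*} [AddCommGroup U] [Module F U] {p q : U}
    (h : ∀ a b : F, a • p + b • q = 0 → a = 0 ∧ b = 0) : LinearIndependent F ![p, q] :=
  LinearIndependent.pair_iff.2 h

namespace Over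

variable [Fintype F] (h : Over M)
include h

/-- No member other than the first has two independent vectors on it. -/
theorem two {L : Submodule F (W × W)} (hL : Mem M L) {a b : W} (hab : LinearIndependent F ![a, b])
    (ha : ((a, 0) : W × W) ∈ L) (hb : ((b, 0) : W × W) ∈ L) : L = linf F W := by
  have hs := h.hs
  haveI := hs.finite_dim
  by_contra hne
  obtain ⟨⟨x₁, z⟩, hxz, hz⟩ : ∃ p ∈ L, p.2 ≠ 0 := by
    by_contra hc
    push Not at hc
    exact hne (hL.eq_of_le hs (fun p hp => mem_linf.2 (hc p hp)) fun _ hp _ hq => mem_linfMem.isotropic (M := M) hp hq)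
  replace hz : z ≠ 0 := hz
  have hperp : ∀ p ∈ L, ∀ w : W, ((w, 0) : W × W) ∈ L → β w p.2 = 0 := fun p hp w hw => by
    simpa [form_apply] using hL.isotropic hw hp
  have hP : Submodule.span F (Set.range ![a, b]) = LinearMap.ker (β z) := by
    refine Submodule.eq_of_le_of_finrank_le ?_ (by rw [hs.finrank_perp hz, finrank_span_eq_card hab, Fintype.card_fin])
    rw [Submodule.span_le]
    rintro _ ⟨i, rfl⟩
    show β z (![a, b] i) = 0
    fin_cases i
    · rw [hs.symm]; exact hperp _ hxz a ha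
    · rw [hs.symm]; exact hperp _ hxz b hb
  have hPL : ∀ w, β z w = 0 → ((w, 0) : W × W) ∈ L := fun w hw => by
    have hle : Submodule.span F (Set.range ![a, b]) ≤ L.comap (LinearMap.inl F W W) := by
      rw [Submodule.span_le]
      rintro _ ⟨i, rfl⟩
      fin_cases i
      · exact ha
      · exact hb
    exact hle (hP ▸ (LinearMap.mem_ker.2 hw))
  have hcomp : ∀ p ∈ L, ∃ c : F, p.2 = c • z := fun p hp => hs.mem_line_of_perp hz fun w hw => by
    rw [hs.symm]; exact hperp p hp w (hPL w hw)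
  by_cases hzz : β z z = 0
  · refine hne (h.rigid hL fun p hp => ?_)
    obtain ⟨c, hc⟩ := hcomp p hp
    have : (p.1 + p.2, p.2) = p + c • ((z, 0) : W × W) := by simp [Prod.ext_iff, hc]
    rw [this]
    exact L.add_mem hp (L.smul_mem _ (hPL z hzz))
  -- move the member
  set κ := β z x₁ * (β z z)⁻¹ with hκ
  have hm := h.hM _ (trs_isTens (β := β) (-κ))
  set g₁ := tr (β := β) (sa_smul_id (-κ)) with hg₁
  set L' := L.map g₁.1.toLinearMap with hL'
  have hmem : Mem M L' := hL.map hm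
  have hPL' : ∀ w, β z w = 0 → ((w, 0) : W × W) ∈ L' := fun w hw => ⟨_, hPL w hw, by
    show g₁.1 (w, 0) = _
    simp [hg₁, tr_apply]⟩
  have hzL' : ((0, z) : W × W) ∈ L' := by
    have h1 : ((x₁ - κ • z, z) : W × W) ∈ L' := ⟨_, hxz, by
      show g₁.1 (x₁, z) = _
      simp [hg₁, tr_apply, sub_eq_add_neg]⟩
    have h2 := hPL' (x₁ - κ • z) (by simp [hκ, mul_assoc, hzz])
    simpa using L'.sub_mem h1 h2
  have hne' : L' ≠ linf F W := fun e => hz (mem_linf.1 (e ▸ hzL') : ((0, z) : W × W).2 = 0)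
  obtain ⟨g, hg, hgL⟩ := hmem
  have hmem' : Mem M L' := ⟨g, hg, hgL⟩
  have hcomp' : ∀ p ∈ L', β z p.1 = 0 ∧ ∃ c : F, p.2 = c • z := fun p hp => by
    refine ⟨?_, hs.mem_line_of_perp hz fun w hw => ?_⟩
    · have := hmem'.isotropic hzL' hp
      simpa [form_apply] using this
    · rw [hs.symm]; simpa [form_apply] using hmem'.isotropic (hPL' w hw) hp
  obtain ⟨hp'', γ, hγ⟩ := hcomp' _ (eta_mem hgL (z, 0))
  set p'' := (eta g (z, 0)).1 with hp''def
  have hη : eta g (z, 0) = (p'', γ • z) := Prod.ext rfl hγ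
  have hηP : ∀ w, β z w = 0 → eta g (w, 0) = 0 := fun w hw => eta_vanish hgL (hPL' w hw)
  have hdec : ∀ x : W, ∃ (α : F) (w : W), β z w = 0 ∧ x = α • z + w := fun x =>
    ⟨β z x * (β z z)⁻¹, x - (β z x * (β z z)⁻¹) • z, by simp [mul_assoc, hzz], by abel⟩
  have hγ0 : γ ≠ 0 := by
    intro e
    refine hne' (h.rigid_conj hg hgL fun x => ?_)
    obtain ⟨α, w, hw, rfl⟩ := hdec x
    rw [conjTr_apply, one_smul, show ((α • z + w, 0) : W × W) = α • (z, 0) + (w, 0) by simp, map_add, map_smul, hη,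
      hηP w hw, e]
    simp
  obtain ⟨-, a₀, ha₀, ha₁⟩ := exists_scalars (F := F) h.h5
  -- a torus element
  have hcj : ∀ r, conjTr g r ∈ M := fun r => mul_mem (mul_mem hg (h.hM _ (trs_isTens r))) (inv_mem hg)
  set T := conjTr g (-(a₀ * γ)⁻¹) * tr (β := β) (sa_smul_id (a₀ - 1)) * conjTr g γ⁻¹ with hT
  have hTM : T ∈ M := mul_mem (mul_mem (hcj _) (h.hM _ (trs_isTens _))) (hcj _)
  have hTP : ∀ w, β z w = 0 → T.1 (w, 0) = (w, 0) := fun w hw => by
    simp [hT, Subgroup.coe_mul, LinearEquiv.mul_apply, conjTr_apply, tr_apply, hηP w hw]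
  have hTz : T.1 (z, 0) = (a₀ • z, 0) := by
    have hη2 : eta g (a₀ • z + γ⁻¹ • p'', z) = (a₀ • p'', (a₀ * γ) • z) := by
      rw [show ((a₀ • z + γ⁻¹ • p'', z) : W × W) = a₀ • ((z, 0) : W × W) + γ⁻¹ • ((p'', 0) : W × W) + (0, z) by simp,
        map_add, map_add, map_smul, map_smul, hη, hηP p'' hp'', eta_vanish hgL hzL']
      simp [smul_smul]
    have step : (tr (β := β) (sa_smul_id (a₀ - 1))).1 ((conjTr g γ⁻¹).1 (z, 0)) = (a₀ • z + γ⁻¹ • p'', z) := by
      rw [conjTr_apply, hη, tr_apply]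
      refine Prod.ext ?_ ?_
      · simp [smul_smul, hγ0, sub_smul]; abel
      · simp [smul_smul, hγ0]
    rw [hT, Subgroup.coe_mul, LinearEquiv.mul_apply, Subgroup.coe_mul, LinearEquiv.mul_apply, step, conjTr_apply, hη2]
    refine Prod.ext ?_ ?_
    · simp [smul_smul, mul_comm, ha₀, mul_assoc]
    · simp [smul_smul]
      rw [show γ⁻¹ * a₀⁻¹ * (a₀ * γ) = 1 by field_simp, one_smul, add_neg_cancel]
  obtain ⟨k, e, D, hk, hD, hTD⟩ := h.stab hTM fun x => by
    obtain ⟨α, w, hw, rfl⟩ := hdec x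
    rw [show ((α • z + w, 0) : W × W) = α • (z, 0) + (w, 0) by simp, map_add, map_smul, hTz, hTP w hw]
    simp
  have hkD : ∀ w, k • D w = (T.1 (w, 0)).1 := fun w => by rw [hTD, tmap_apply]; simp
  have hform : ∀ u v, β ((T.1 (u, 0)).1) ((T.1 (v, 0)).1) = k * β u v := fun u v => by
    rw [← hkD, ← hkD, map_smul, map_smul, LinearMap.smul_apply, smul_eq_mul, smul_eq_mul, ← hD u v]
  obtain ⟨p₁, hp₁, p₂, hp₂, hpp⟩ : ∃ p₁, β z p₁ = 0 ∧ ∃ p₂, β z p₂ = 0 ∧ β p₁ p₂ ≠ 0 := by
    by_contra hc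
    push Not at hc
    have hsub : ∀ w, β z w = 0 → w = 0 := fun w hw => hs.nondeg w fun y => by
      obtain ⟨α, y', hy', rfl⟩ := hdec y
      simp [hs.symm w z, hw, hc w hw y' hy']
    have hbot : LinearMap.ker (β z) = ⊥ := (Submodule.eq_bot_iff _).2 fun w hw => hsub w hw
    have := hs.finrank_perp hz
    rw [hbot, finrank_bot] at this
    omega
  have h1 := hform p₁ p₂
  rw [hTP p₁ hp₁, hTP p₂ hp₂] at h1
  have hk1 : k = 1 := (mul_eq_right₀ hpp).1 h1.symm
  have h2 := hform z z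
  rw [hTz, hk1] at h2
  simp only [map_smul, LinearMap.smul_apply, smul_eq_mul, one_mul] at h2
  refine ha₁ (mul_right_cancel₀ hzz ?_)
  rw [one_mul]; linear_combination h2

/-- Two members with two independent common vectors are equal. -/
theorem two_eq {L L' : Submodule F (W × W)} (hL : Mem M L) (hL' : Mem M L') {p q : W × W}
    (hpq : LinearIndependent F ![p, q]) (hp : p ∈ L) (hp' : p ∈ L') (hq : q ∈ L) (hq' : q ∈ L') : L = L' := by
  obtain ⟨g, hg, rfl⟩ := hL
  have hm := hL'.map (inv_mem hg)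
  obtain ⟨p₀, hp₀, rfl⟩ := hp
  obtain ⟨q₀, hq₀, rfl⟩ := hq
  have hi : ∀ r, g.1 r ∈ L' → r ∈ L'.map (g⁻¹).1.toLinearMap := fun r hr => ⟨_, hr, g.1.symm_apply_apply r⟩
  have ep : p₀ = (p₀.1, 0) := Prod.ext rfl (mem_linf.1 hp₀)
  have eq' : q₀ = (q₀.1, 0) := Prod.ext rfl (mem_linf.1 hq₀)
  have hind : LinearIndependent F ![p₀.1, q₀.1] := linearIndependent_two fun s t hst => by
    refine LinearIndependent.pair_iff.1 hpq s t ?_
    rw [← map_smul, ← map_smul, ← map_add, show s • p₀ + t • q₀ = 0 by rw [ep, eq']; simp [hst], map_zero]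
  have := h.two hm hind (by rw [← ep]; exact hi _ hp') (by rw [← eq']; exact hi _ hq')
  rw [← this]
  refine le_antisymm ?_ fun r hr => ⟨g.1.symm r, ⟨r, hr, rfl⟩, g.1.apply_symm_apply r⟩
  rintro _ ⟨_, ⟨r, hr, rfl⟩, rfl⟩
  show g.1 (g.1.symm r) ∈ L'
  rwa [g.1.apply_symm_apply]

end Over

end CfsgLib.Classical.SpTensorSix
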